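import Cfsg.Agent.Omega.OM.Swap.Fam.Two
import Cfsg.Agent.Omega.OM.Swap.Gen.One

/-!
# THEOREM SW over a family, STEP 1 in the general form of helper87 (any q)

`One F T F₀ 𝓐 U l Z`: `T` Sylow in `F`, `F₀` the unique maximal subgroup over `T`, `U = ⟨l i⟩ ≤ O = O₂(F)` normalised by
`T`, `⟨U^F⟩` elementary abelian; `𝓐` a family of best offenders on `⟨U^F⟩`; (H1) `C_F(Z i) ≤ F₀`; (H2) a member of `𝓐` in `T`
centralises `l i` or `Z i ≤ [l i, A]`; (H3) `Z i ≤ [U, O]`; (H4) `N_F(U) ≤ F₀`.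

`One.exists_one` : there are `c ∈ T` which moves `U`, `c²` centralises `U`, and `a ∈ F - F₀` which centralises `[U, c]`.
-/

set_option autoImplicit false

namespace Cfsg.Agent.Omega.OM.Swap.Fam

open Subgroup Cfsg Cfsg.Agent.ZN Cfsg.Agent.ZN.ChoiceBase Cfsg.Agent.ZN.ChoiceSit
  Cfsg.Agent.MinSimple.VModule Cfsg.Agent.Omega.OmThm
open Cfsg.Agent.Omega.OM.Swap hiding Two One Mx
open Cfsg.Agent.MinSimple.MinParabolic (IsMinPar)
open Cfsg.Agent.Omega.FFThm (ElemM)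
open scoped Pointwise commutatorElement

universe u

/-- The general situation of STEP 1. -/
structure One {G : Type u} [Group G] {ι : Type*} (F T F₀ : Subgroup G) (𝓐 : Set (Subgroup G)) (U : Subgroup G)
    (l Z : ι → Subgroup G) : Prop where
  syl : Syl T F
  TF₀ : T ≤ F₀
  F₀F : F₀ < F
  max : ∀ K : Subgroup G, T ≤ K → K < F → K ≤ F₀
  fam : Fm F (NoFF.Basic.V U F) 𝓐
  nJ : ∃ A ∈ 𝓐, A ≤ T ∧ ¬ A ≤ o2 F
  ne : Nonempty ι
  UO : U ≤ o2 F
  TU : T ≤ normalizer (U : Set G)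
  comm : ∀ x ∈ NoFF.Basic.V U F, ∀ y ∈ NoFF.Basic.V U F, x * y = y * x
  sq : ∀ x ∈ NoFF.Basic.V U F, x * x = 1
  sup : U = ⨆ i, l i
  H1 : ∀ i, ∀ f ∈ F, (∀ x ∈ Z i, f * x = x * f) → f ∈ F₀
  H2 : ∀ A ∈ 𝓐, A ≤ T → ∀ i, (∀ a ∈ A, ∀ x ∈ l i, a * x = x * a) ∨
    Z i ≤ closure {y | ∃ x ∈ l i, ∃ a ∈ A, y = x * (a * x * a⁻¹)}
  H3 : ∀ i, Z i ≤ ⁅U, o2 F⁆
  H4 : F ⊓ normalizer (U : Set G) ≤ F₀

variable {G : Type u} [Group G] {ι : Type*} {F T F₀ U : Subgroup G} {𝓐 : Set (Subgroup G)} {l Z : ι → Subgroup G}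

/-- The group generated by the members of `𝓐` in `X`. -/
def JA (𝓐 : Set (Subgroup G)) (X : Subgroup G) : Subgroup G := sSup {A | A ∈ 𝓐 ∧ A ≤ X}

theorem JA_le (X : Subgroup G) : JA 𝓐 X ≤ X := sSup_le fun _ hA => hA.2

theorem le_JA {X A : Subgroup G} (hA : A ∈ 𝓐) (h : A ≤ X) : A ≤ JA 𝓐 X := le_sSup ⟨hA, h⟩

theorem JA_mono {X Y : Subgroup G} (h : X ≤ Y) : JA 𝓐 X ≤ JA 𝓐 Y :=
  sSup_le fun _ hA => le_JA hA.1 (hA.2.trans h)

theorem JA_JA (X : Subgroup G) : JA 𝓐 (JA 𝓐 X) = JA 𝓐 X :=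
  le_antisymm (JA_le _) (sSup_le fun _ hA => le_JA hA.1 (le_JA hA.1 hA.2))

/-- `R` is a maximal intersection. -/
structure MxA (F T F₀ : Subgroup G) (𝓐 : Set (Subgroup G)) (R : Subgroup G) : Prop where
  RF : R ≤ F
  R2 : IsPGroup 2 R
  On : o2 F ≤ normalizer (R : Set G)
  gen : JA 𝓐 R = R
  one : ∀ A ∈ 𝓐, A ≤ normalizer (R : Set G) → ¬ A ≤ R → ∀ g ∈ F, ∀ g' ∈ F, R ⊔ A ≤ cj g T → R ⊔ A ≤ cj g' T →
    g⁻¹ * g' ∈ F₀
  ex : ∃ A ∈ 𝓐, ∃ A' ∈ 𝓐, A ≤ normalizer (R : Set G) ∧ ¬ A ≤ R ∧ A' ≤ normalizer (R : Set G) ∧ ¬ A' ≤ R ∧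
    ∃ g ∈ F, ∃ g' ∈ F, R ⊔ A ≤ cj g T ∧ R ⊔ A' ≤ cj g' T ∧ g⁻¹ * g' ∉ F₀

namespace One

local notation "Λ" => NoFF.Basic.V U F

variable (h : One F T F₀ 𝓐 U l Z)
include h

theorem T2 : IsPGroup 2 T := h.syl.2.1

theorem TF : T ≤ F := h.syl.1

theorem OT [Finite G] : o2 F ≤ T := o2_le_syl h.syl

theorem l_le (i : ι) : l i ≤ U := by rw [h.sup]; exact le_iSup l i

theorem Lam_elab : IsElementaryAbelian 2 (Λ) := elab_of h.comm h.sq

omit h in
theorem cjU_le_Lam {g : G} (hg : g ∈ F) : cj g U ≤ Λ := NoFF.Basic.Z_le_V hg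

theorem Lam_le_O : Λ ≤ o2 F := NoFF.Basic.V_le fun p hp => by
  have h1 : cj p U ≤ cj p (o2 F) := cj_mono p h.UO
  rw [cj_o2_self hp] at h1
  exact h1

theorem Lam_le_F : Λ ≤ F := h.Lam_le_O.trans (ChoiceSit.o2_le F)

omit h in
theorem F_nor : F ≤ normalizer ((Λ : Subgroup G) : Set G) := XD.X_le_normalizer_W

omit h in
theorem conj_Lam {f x : G} (hf : f ∈ F) (hx : x ∈ Λ) : f * x * f⁻¹ ∈ Λ :=
  (mem_normalizer_iff.1 (F_nor hf) x).1 hx

/-- (H1) conjugated -/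
theorem H1' {g a : G} (hg : g ∈ F) (ha : a ∈ F) {i : ι} (hax : ∀ x ∈ cj g (Z i), a * x = x * a) : a ∈ cj g F₀ := by
  rw [mem_cj]
  refine h.H1 i _ (mul_mem (mul_mem (inv_mem hg) ha) hg) fun x hx => ?_
  have h1 := hax _ (conj_mem_cj (g := g) hx)
  have h2 := congrArg (fun t => g⁻¹ * t * g) h1
  have e1 : g⁻¹ * (a * (g * x * g⁻¹)) * g = g⁻¹ * a * g * x := by group
  have e2 : g⁻¹ * (g * x * g⁻¹ * a) * g = x * (g⁻¹ * a * g) := by group
  rw [← e1, ← e2]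
  exact h2

theorem F₀_le : F₀ ≤ F := h.F₀F.le

theorem cj_JA {g : G} (hg : g ∈ F) (X : Subgroup G) : cj g (JA 𝓐 X) = JA 𝓐 (cj g X) := by
  have key : ∀ g ∈ F, ∀ X : Subgroup G, cj g (JA 𝓐 X) ≤ JA 𝓐 (cj g X) := by
    intro g hg X
    rw [cj_le_iff]
    refine sSup_le fun A hA => ?_
    rw [← cj_cj_inv g⁻¹ A, inv_inv]
    exact cj_mono g⁻¹ (le_JA (h.fam.conj g hg A hA.1) (cj_mono g hA.2))
  refine le_antisymm (key g hg X) ?_
  have h1 := cj_mono g (key g⁻¹ (inv_mem hg) (cj g X))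
  rwa [cj_cj_inv, cj_inv_cj] at h1

theorem T_not_normal [Finite G] : ¬ F ≤ normalizer (T : Set G) := by
  intro h1
  obtain ⟨A, hA, hAT, hAO⟩ := h.nJ
  exact hAO (hAT.trans (ChoiceSit.le_o2 h.T2 h.TF h1))

theorem NT [Finite G] : F ⊓ normalizer (T : Set G) ≤ F₀ :=
  h.max _ (le_inf h.TF le_normalizer) (lt_of_le_of_ne inf_le_left fun h1 =>
    h.T_not_normal (inf_eq_left.1 h1))

theorem syl_F₀ : Syl T F₀ := ⟨h.TF₀, h.T2, fun Q hQ hQ2 hTQ => h.syl.2.2 Q (hQ.trans h.F₀_le) hQ2 hTQ⟩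

theorem pt_of_eq [Finite G] {g g' : G} (hg : g ∈ F) (hg' : g' ∈ F) (he : cj g T = cj g' T) : g⁻¹ * g' ∈ F₀ := by
  refine h.NT (mem_inf.2 ⟨mul_mem (inv_mem hg) hg', ?_⟩)
  rw [mem_normalizer_iff_cj, ← cj_cj, ← he, cj_inv_cj]

theorem exists_cj [Finite G] {Q : Subgroup G} (hQ : IsPGroup 2 Q) (hQF : Q ≤ F) : ∃ g ∈ F, Q ≤ cj g T := by
  obtain ⟨S, hS, hQS⟩ := exists_syl hQ hQF
  obtain ⟨x, hx, hxS⟩ := syl_conj h.syl hS
  exact ⟨x, hx, hxS ▸ hQS⟩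

theorem exists_cj_pt [Finite G] {Q : Subgroup G} (hQ : IsPGroup 2 Q) {g : G} (hg : g ∈ F) (hQF : Q ≤ cj g F₀) :
    ∃ g' ∈ F, g⁻¹ * g' ∈ F₀ ∧ Q ≤ cj g' T := by
  have h1 : cj g⁻¹ Q ≤ F₀ := by rw [cj_le_iff, inv_inv]; exact hQF
  obtain ⟨S, hS, hQS⟩ := exists_syl (isPGroup_cj g⁻¹ hQ) h1
  obtain ⟨x, hx, hxS⟩ := syl_conj h.syl_F₀ hS
  refine ⟨g * x, mul_mem hg (h.F₀_le hx), by rwa [inv_mul_cancel_left], ?_⟩
  rw [← cj_cj, hxS]
  have := cj_mono g hQS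
  rwa [cj_cj_inv] at this

theorem le_cj_of {K : Subgroup G} {g : G} (hg : g ∈ F) (hT : cj g T ≤ K) (hK : K < F) : K ≤ cj g F₀ := by
  have h1 : cj g⁻¹ K ≤ F₀ := by
    refine h.max _ ?_ ?_
    · rw [← cj_inv_cj g T]
      exact cj_mono g⁻¹ hT
    · have h2 : cj g⁻¹ K ≤ F := by
        have := cj_mono g⁻¹ hK.le
        rwa [cj_self (inv_mem hg)] at this
      refine lt_of_le_of_ne h2 fun h3 => hK.ne ?_
      have := congrArg (cj g) h3
      rwa [cj_cj_inv, cj_self hg] at this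
  rw [← cj_cj_inv g K]
  exact cj_mono g h1

theorem cj_T_le {g : G} : cj g T ≤ cj g F₀ := cj_mono g h.TF₀

theorem O_le_cj [Finite G] {g : G} (hg : g ∈ F) : o2 F ≤ cj g T := by
  have := cj_mono g h.OT
  rwa [cj_o2_self hg] at this

theorem pt_of_le [Finite G] {g g' : G} (hg : g ∈ F) (hg' : g' ∈ F) (hle : cj g' T ≤ cj g F₀) : g⁻¹ * g' ∈ F₀ := by
  obtain ⟨k, hk, hk1, hk2⟩ := h.exists_cj_pt (isPGroup_cj g' h.T2) hg hle
  have h1 : cj g' T = cj k T := eq_of_le_of_card_ge hk2 (by rw [card_cj, card_cj])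
  have h2 := h.pt_of_eq hk hg' h1.symm
  have h3 := mul_mem hk1 h2
  have e : g⁻¹ * k * (k⁻¹ * g') = g⁻¹ * g' := by group
  rwa [e] at h3

theorem mem_of_cj_eq [Finite G] {a k : G} (ha : a ∈ F) (hk : k ∈ F) (he : cj a (cj k F₀) = cj k F₀) :
    a ∈ cj k F₀ := by
  rw [mem_cj]
  have hx : k⁻¹ * a * k ∈ F := mul_mem (mul_mem (inv_mem hk) ha) hk
  have h1 : cj (k⁻¹ * a * k) F₀ = F₀ := by
    rw [← cj_cj, ← cj_cj, he, cj_inv_cj]
  have h2 := h.pt_of_le (one_mem F) hx (by rw [cj_one, ← h1]; exact cj_mono _ h.TF₀)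
  rwa [inv_one, one_mul] at h2

/-! ### `R` -/

theorem grow [Finite G] {R : Subgroup G} (hR : JA 𝓐 R = R) {g : G} (hg : g ∈ F) (hRg : R ≤ cj g T)
    (hno : ∀ A ∈ 𝓐, A ≤ cj g T → A ≤ normalizer (R : Set G) → A ≤ R) : JA 𝓐 (cj g T) = R := by
  set P := cj g T with hP
  have hPF : P ≤ F := by
    have := cj_mono g h.TF
    rwa [cj_self hg] at this
  set K := P ⊓ normalizer (R : Set G) with hK
  have hRK : R ≤ K := le_inf hRg le_normalizer
  have hJK : JA 𝓐 K = R :=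
    le_antisymm (sSup_le fun A hA => hno A hA.1 (hA.2.trans inf_le_left) (hA.2.trans inf_le_right))
      (hR.symm.le.trans (JA_mono hRK))
  have h1 : K = P := by
    apply ZN.ChoiceNse.eq_of_normalizer_inf_le (isPGroup_cj g h.T2) inf_le_left
    rintro x ⟨hx1, hx2⟩
    refine mem_inf.2 ⟨hx2, ?_⟩
    rw [mem_normalizer_iff_cj, ← hJK, h.cj_JA (hPF hx2), cj_eq_of_mem_normalizer hx1]
  rw [← h1, hJK]

theorem exists_mx [Finite G] : ∃ R, MxA F T F₀ 𝓐 R := by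
  classical
  obtain ⟨g₀, hg₀, hg₀'⟩ := SetLike.exists_of_lt h.F₀F
  obtain ⟨⟨g₁, g₂⟩, ⟨hg₁, hg₂, hne⟩, hmax⟩ := Set.exists_max_image
    {p : G × G | p.1 ∈ F ∧ p.2 ∈ F ∧ p.1⁻¹ * p.2 ∉ F₀} (fun p => Nat.card (JA 𝓐 (cj p.1 T ⊓ cj p.2 T)))
    (Set.toFinite _) ⟨(1, g₀), one_mem _, hg₀, by simpa using hg₀'⟩
  simp only at hg₁ hg₂ hne hmax
  set R := JA 𝓐 (cj g₁ T ⊓ cj g₂ T) with hRdef
  have hR1 : R ≤ cj g₁ T := (JA_le _).trans inf_le_left
  have hR2 : R ≤ cj g₂ T := (JA_le _).trans inf_le_right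
  have hgen : JA 𝓐 R = R := JA_JA _
  have hRF : R ≤ F := sSup_le fun A hA => h.fam.le A hA.1
  have hO : o2 F ≤ normalizer (R : Set G) := by
    intro o ho
    have hoF := ChoiceSit.o2_le F ho
    rw [mem_normalizer_iff_cj, hRdef, h.cj_JA hoF, cj_inf, cj_self (h.O_le_cj hg₁ ho), cj_self (h.O_le_cj hg₂ ho)]
  have hex : ∀ g g' : G, g ∈ F → g' ∈ F → R ≤ cj g T → R ≤ cj g' T → g⁻¹ * g' ∉ F₀ →
      ∃ A ∈ 𝓐, A ≤ cj g T ∧ A ≤ normalizer (R : Set G) ∧ ¬ A ≤ R := by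
    intro g g' hg hg' hRg hRg' hgg'
    by_contra hcon
    push Not at hcon
    have h1 := h.grow hgen hg hRg fun A hA hA1 hA2 => hcon A hA hA1 hA2
    have h2 : JA 𝓐 (cj g' T) = R := by
      have h3 : R ≤ JA 𝓐 (cj g' T) := hgen.symm.le.trans (JA_mono hRg')
      refine (eq_of_le_of_card_ge h3 ?_).symm
      have h4 : cj (g' * g⁻¹) (JA 𝓐 (cj g T)) = JA 𝓐 (cj g' T) := by
        rw [h.cj_JA (mul_mem hg' (inv_mem hg)), cj_cj, inv_mul_cancel_right]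
      rw [← h4, card_cj, h1]
    have hn : ∀ g ∈ F, JA 𝓐 (cj g T) = R → cj g T ≤ normalizer (R : Set G) := by
      intro g hg he x hx
      have hxF : x ∈ F := by
        have := cj_mono g h.TF hx
        rwa [cj_self hg] at this
      rw [mem_normalizer_iff_cj, ← he, h.cj_JA hxF, cj_self hx]
    have hFn : ∀ g ∈ F, cj g T ≤ F := by
      intro g hg
      have := cj_mono g h.TF
      rwa [cj_self hg] at this
    have n1 := hn g hg h1
    have n2 := hn g' hg' h2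
    by_cases hF : F ≤ normalizer (R : Set G)
    · have h3 : R ≤ o2 F := ChoiceSit.le_o2 ((isPGroup_cj g h.T2).to_le hRg) hRF hF
      obtain ⟨A, hA, hAT, hAO⟩ := h.nJ
      apply hAO
      have h4 : cj g A ≤ o2 F := (le_JA (h.fam.conj g hg A hA) (cj_mono g hAT)).trans (h1.le.trans h3)
      rw [cj_le_iff, cj_o2_self (inv_mem hg)] at h4
      exact h4
    · have hlt : F ⊓ normalizer (R : Set G) < F := lt_of_le_of_ne inf_le_left fun h4 => hF (inf_eq_left.1 h4)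
      have h3 := h.le_cj_of hg (le_inf (hFn g hg) n1) hlt
      exact hgg' (h.pt_of_le hg hg' ((le_inf (hFn g' hg') n2).trans h3))
  refine ⟨R, hRF, (isPGroup_cj g₁ h.T2).to_le hR1, hO, hgen, ?_, ?_⟩
  · intro A hA hAN hAR g hg g' hg' h1 h2
    by_contra hcon
    have h3 := hmax (g, g') ⟨hg, hg', hcon⟩
    simp only at h3
    have h4 : R ≤ JA 𝓐 (cj g T ⊓ cj g' T) := hgen.symm.le.trans (JA_mono (le_inf (le_sup_left.trans h1) (le_sup_left.trans h2)))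
    have h5 : R = JA 𝓐 (cj g T ⊓ cj g' T) := eq_of_le_of_card_ge h4 h3
    apply hAR
    rw [h5]
    exact le_JA hA (le_inf (le_sup_right.trans h1) (le_sup_right.trans h2))
  · obtain ⟨A, hA, hA1, hA2, hA3⟩ := hex g₁ g₂ hg₁ hg₂ hR1 hR2 hne
    obtain ⟨A', hA', hA1', hA2', hA3'⟩ := hex g₂ g₁ hg₂ hg₁ hR2 hR1 fun h1 => hne (by
      have := inv_mem h1
      rwa [mul_inv_rev, inv_inv] at this)
    exact ⟨A, hA, A', hA', hA2, hA3, hA2', hA3', g₁, hg₁, g₂, hg₂, sup_le hR1 hA1, sup_le hR2 hA1', hne⟩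

end One

/-- The panel. -/
structure GPan (F T F₀ : Subgroup G) (𝓐 : Set (Subgroup G)) (U R A Y Rs : Subgroup G) (g : G) : Prop where
  mx : MxA F T F₀ 𝓐 R
  hA : A ∈ 𝓐
  AN : A ≤ normalizer (R : Set G)
  AR : ¬ A ≤ R
  Amax : ∀ B ∈ 𝓐, B ≤ normalizer (R : Set G) → ¬ B ≤ R →
    Nat.card ↥(NoFF.Basic.V U F ⊓ centralizer (B : Set G)) ≤ Nat.card ↥(NoFF.Basic.V U F ⊓ centralizer (A : Set G))
  gF : g ∈ F
  YF : Y ≤ F
  YN : Y ≤ normalizer (R : Set G)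
  syl : Syl Rs Y
  ORs : o2 F ≤ Rs
  RRs : R ≤ Rs
  ARs : A ≤ Rs
  RsT : Rs ≤ cj g T
  max : ∀ K : Subgroup G, o2 F ⊔ R ⊔ A ≤ K → K < Y → K ≤ cj g F₀
  nY : ¬ Y ≤ cj g F₀

theorem One.exists_pan [Finite G] (h : One F T F₀ 𝓐 U l Z) : ∃ R A Y Rs g, GPan F T F₀ 𝓐 U R A Y Rs g := by
  classical
  obtain ⟨R, hR⟩ := h.exists_mx
  obtain ⟨A₁, hA₁, A₂, hA₂, hN₁, hR₁, hN₂, hR₂, g₁, hg₁, g₂, hg₂, hT₁, hT₂, hne⟩ := hR.ex
  obtain ⟨A, ⟨hA, hAN, hAR⟩, hmax⟩ := Set.exists_max_image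
    {A : Subgroup G | A ∈ 𝓐 ∧ A ≤ normalizer (R : Set G) ∧ ¬ A ≤ R} (fun A => Nat.card ↥(NoFF.Basic.V U F ⊓ centralizer (A : Set G)))
    (Set.toFinite _) ⟨A₁, hA₁, hN₁, hR₁⟩
  have two : ∀ B ∈ 𝓐, B ≤ normalizer (R : Set G) → IsPGroup 2 (o2 F ⊔ R ⊔ B : Subgroup G) := by
    intro B hB hBN
    have : Fact (Nat.Prime 2) := ⟨Nat.prime_two⟩
    have h1 : IsPGroup 2 (o2 F ⊔ R : Subgroup G) :=
      IsPGroup.to_sup_of_normal_right' (ChoiceSit.isPGroup_o2 F) hR.R2 hR.On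
    refine IsPGroup.to_sup_of_normal_left' h1 (h.fam.two B hB) ?_
    intro b hb
    rw [mem_normalizer_iff_cj]
    have e : cj b (o2 F ⊔ R) = cj b (o2 F) ⊔ cj b R := Subgroup.map_sup _ _ _
    rw [e, cj_o2_self (h.fam.le B hB hb), cj_eq_of_mem_normalizer (hBN hb)]
  have leF : ∀ B ∈ 𝓐, o2 F ⊔ R ⊔ B ≤ F := fun B hB => sup_le (sup_le (ChoiceSit.o2_le F) hR.RF) (h.fam.le B hB)
  obtain ⟨gA, hgA, hTA⟩ := h.exists_cj (two A hA hAN) (leF A hA)
  have hRA : R ⊔ A ≤ cj gA T := (sup_le_sup_right le_sup_right A).trans hTA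
  have ex : ∃ B ∈ 𝓐, B ≤ normalizer (R : Set G) ∧ ¬ B ≤ R ∧ ∃ g ∈ F, R ⊔ B ≤ cj g T ∧ gA⁻¹ * g ∉ F₀ := by
    by_cases h1 : gA⁻¹ * g₁ ∈ F₀
    · refine ⟨A₂, hA₂, hN₂, hR₂, g₂, hg₂, hT₂, fun h2 => hne ?_⟩
      have h3 := mul_mem (inv_mem h1) h2
      have e : (gA⁻¹ * g₁)⁻¹ * (gA⁻¹ * g₂) = g₁⁻¹ * g₂ := by group
      rwa [e] at h3
    · exact ⟨A₁, hA₁, hN₁, hR₁, g₁, hg₁, hT₁, h1⟩
  obtain ⟨A', ⟨hA', hAN', hAR', g', hg', hT', hne'⟩, hmin⟩ := Set.exists_min_image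
    {B : Subgroup G | B ∈ 𝓐 ∧ B ≤ normalizer (R : Set G) ∧ ¬ B ≤ R ∧ ∃ g ∈ F, R ⊔ B ≤ cj g T ∧ gA⁻¹ * g ∉ F₀}
    (fun B => Nat.card ↥(o2 F ⊔ R ⊔ A ⊔ B)) (Set.toFinite _) ex
  set Y := o2 F ⊔ R ⊔ A ⊔ A' with hY
  have hYF : Y ≤ F := sup_le (leF A hA) (h.fam.le A' hA')
  have hYN : Y ≤ normalizer (R : Set G) := sup_le (sup_le (sup_le hR.On le_normalizer) hAN) hAN'
  have hQY : o2 F ⊔ R ⊔ A ≤ Y := le_sup_left
  have hYn : ¬ Y ≤ cj gA F₀ := by
    intro h1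
    have h2 : R ⊔ A' ≤ cj gA F₀ := (sup_le (le_sup_right.trans (le_sup_left.trans le_sup_left)) le_sup_right).trans h1
    have h3 : IsPGroup 2 (R ⊔ A' : Subgroup G) := (two A' hA' hAN').to_le (sup_le_sup_right le_sup_right A')
    obtain ⟨k, hk, hk1, hk2⟩ := h.exists_cj_pt h3 hgA h2
    have h4 := hR.one A' hA' hAN' hAR' k hk g' hg' hk2 hT'
    have h5 := mul_mem hk1 h4
    have e : gA⁻¹ * k * (k⁻¹ * g') = gA⁻¹ * g' := by group
    rw [e] at h5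
    exact hne' h5
  have hKmax : ∀ K : Subgroup G, o2 F ⊔ R ⊔ A ≤ K → K < Y → K ≤ cj gA F₀ := by
    intro K hQK hKY
    by_contra hcon
    obtain ⟨k, hkK, hk⟩ := SetLike.not_le_iff_exists.1 hcon
    have hkY : k ∈ Y := hKY.le hkK
    have hkF : k ∈ F := hYF hkY
    have hkR : cj k R = R := cj_eq_of_mem_normalizer (hYN hkY)
    have h1 : cj k A ∈ 𝓐 := h.fam.conj k hkF A hA
    have h2 : cj k A ≤ K := by
      have := cj_mono k (le_sup_right.trans hQK : A ≤ K)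
      rwa [cj_self hkK] at this
    have h3 : ¬ cj k A ≤ R := by
      intro h4
      apply hAR
      rw [← hkR] at h4
      have := cj_mono k⁻¹ h4
      rwa [cj_inv_cj, cj_inv_cj] at this
    have h4 : R ⊔ cj k A ≤ cj (k * gA) T := by
      rw [← hkR, ← cj_cj]
      refine sup_le ?_ ?_
      · rw [hkR, ← hkR]
        exact cj_mono k (le_sup_left.trans hRA)
      · exact cj_mono k (le_sup_right.trans hRA)
    have h5 : gA⁻¹ * (k * gA) ∉ F₀ := by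
      intro h6
      apply hk
      rw [mem_cj]
      rwa [← mul_assoc] at h6
    have h6 := hmin (cj k A) ⟨h1, h2.trans (hKY.le.trans hYN), h3, k * gA, mul_mem hkF hgA, h4, h5⟩
    have h7 : o2 F ⊔ R ⊔ A ⊔ cj k A ≤ K := sup_le hQK h2
    have h8 : Nat.card Y ≤ Nat.card K := h6.trans (Subgroup.card_le_of_le h7)
    exact hKY.ne (eq_of_le_of_card_ge hKY.le h8)
  obtain ⟨Rs, hRs, hQRs⟩ := exists_syl (two A hA hAN) hQY
  obtain ⟨g, hg, hRsg⟩ := h.exists_cj hRs.2.1 (hRs.1.trans hYF)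
  have hpt : gA⁻¹ * g ∈ F₀ := hR.one A hA hAN hAR gA hgA g hg hRA
    (((sup_le_sup_right le_sup_right A).trans hQRs).trans hRsg)
  have hFe : cj g F₀ = cj gA F₀ := by
    have : g = gA * (gA⁻¹ * g) := by group
    rw [this, ← cj_cj, cj_self hpt]
  refine ⟨R, A, Y, Rs, g, hR, hA, hAN, hAR, fun B hB h1 h2 => hmax B ⟨hB, h1, h2⟩, hg, hYF, hYN, hRs,
    (le_sup_left.trans le_sup_left).trans hQRs, (le_sup_right.trans le_sup_left).trans hQRs,
    le_sup_right.trans hQRs, hRsg, ?_, ?_⟩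
  · rw [hFe]
    exact hKmax
  · rw [hFe]
    exact hYn

namespace GPan

local notation "Λ" => NoFF.Basic.V U F

variable {R A Y Rs : Subgroup G} {g : G} (p : GPan F T F₀ 𝓐 U R A Y Rs g)
include p

theorem RsY : Rs ≤ Y := p.syl.1

theorem Rs2 : IsPGroup 2 Rs := p.syl.2.1

theorem AY : A ≤ Y := p.ARs.trans p.RsY

theorem RY : R ≤ Y := p.RRs.trans p.RsY

theorem OY : o2 F ≤ Y := p.ORs.trans p.RsY

theorem R_le_o2 [Finite G] : R ≤ o2 Y := ChoiceSit.le_o2 p.mx.R2 p.RY p.YN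

theorem O_le_o2 [Finite G] : o2 F ≤ o2 Y :=
  ChoiceSit.le_o2 (ChoiceSit.isPGroup_o2 F) p.OY (p.YF.trans (ChoiceSit.le_normalizer_o2 F))

theorem o2_le_Rs [Finite G] : o2 Y ≤ Rs := o2_le_syl p.syl

theorem o2_le_cj [Finite G] {y : G} (hy : y ∈ Y) : o2 Y ≤ cj (y * g) T := by
  have h1 := cj_mono y (p.o2_le_Rs.trans p.RsT)
  rwa [cj_o2_self hy, cj_cj] at h1

theorem yF {y : G} (hy : y ∈ Y) : y * g ∈ F := mul_mem (p.YF hy) p.gF

theorem RsF₀ (h : One F T F₀ 𝓐 U l Z) : Rs ≤ cj g F₀ := p.RsT.trans h.cj_T_le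

theorem not_normal [Finite G] : ¬ Y ≤ normalizer (Rs : Set G) := by
  intro h1
  have h3 : Rs ≤ o2 Y := ChoiceSit.le_o2 p.Rs2 p.RsY h1
  obtain ⟨y, hy, hyn⟩ := SetLike.not_le_iff_exists.1 p.nY
  have h4 : R ⊔ A ≤ cj (y * g) T := (sup_le p.RRs p.ARs).trans (h3.trans (p.o2_le_cj hy))
  have h5 := p.mx.one A p.hA p.AN p.AR g p.gF _ (p.yF hy) ((sup_le p.RRs p.ARs).trans p.RsT) h4
  apply hyn
  rw [mem_cj]
  rwa [← mul_assoc] at h5

theorem max' {K : Subgroup G} (hK : Rs ≤ K) (hKY : K < Y) : K ≤ cj g F₀ :=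
  p.max K (sup_le (sup_le (p.ORs.trans hK) (p.RRs.trans hK)) (p.ARs.trans hK)) hKY

theorem lt : Y ⊓ cj g F₀ < Y :=
  lt_of_le_of_ne inf_le_left fun h1 => p.nY (inf_eq_left.1 h1)

theorem par [Finite G] : IsMinPar Rs Y :=
  ⟨p.RsY, p.not_normal, Y ⊓ cj g F₀, p.lt, fun _ hK hKY => le_inf hKY.le (p.max' hK hKY)⟩

theorem not_fix [Finite G] (h : One F T F₀ 𝓐 U l Z) {y : G} (hy : y ∈ Y) (hyn : y ∉ cj g F₀) :
    ¬ A ≤ cj (y * g) F₀ := by
  intro h1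
  have h2 : R ⊔ A ≤ cj (y * g) F₀ := sup_le ((p.R_le_o2.trans (p.o2_le_cj hy)).trans h.cj_T_le) h1
  have h3 : IsPGroup 2 (R ⊔ A : Subgroup G) := p.Rs2.to_le (sup_le p.RRs p.ARs)
  obtain ⟨k, hk, hk1, hk2⟩ := h.exists_cj_pt h3 (p.yF hy) h2
  have h4 := p.mx.one A p.hA p.AN p.AR g p.gF k hk ((sup_le p.RRs p.ARs).trans p.RsT) hk2
  apply hyn
  have h5 := mul_mem h4 (inv_mem hk1)
  have e : g⁻¹ * k * ((y * g)⁻¹ * k)⁻¹ = g⁻¹ * y * g := by group
  rw [e] at h5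
  rwa [mem_cj]

theorem ker [Finite G] (h : One F T F₀ 𝓐 U l Z) {a : G} (ha : a ∈ A) (hfix : ∀ y ∈ Y, a ∈ cj (y * g) F₀) : a ∈ o2 Y := by
  have : Fact (Nat.Prime 2) := ⟨Nat.prime_two⟩
  set N : Subgroup G := Y ⊓ ⨅ y : Y, cj ((y : G) * g) F₀ with hN
  have hmemN : ∀ x, x ∈ N ↔ x ∈ Y ∧ ∀ y ∈ Y, x ∈ cj (y * g) F₀ := by
    intro x
    rw [hN, mem_inf, mem_iInf]
    exact ⟨fun h => ⟨h.1, fun y hy => h.2 ⟨y, hy⟩⟩, fun h => ⟨h.1, fun y => h.2 y y.2⟩⟩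
  have hYn : Y ≤ normalizer (N : Set G) := by
    intro x hx
    refine mem_normalizer_of_cj_le fun w hw => ?_
    rw [mem_cj, hmemN] at hw
    rw [hmemN]
    constructor
    · have := mul_mem (mul_mem hx hw.1) (inv_mem hx)
      have e : x * (x⁻¹ * w * x) * x⁻¹ = w := by group
      rwa [e] at this
    · intro y hy
      have h1 := hw.2 (x⁻¹ * y) (mul_mem (inv_mem hx) hy)
      rw [mem_cj] at h1 ⊢
      have e : (x⁻¹ * y * g)⁻¹ * (x⁻¹ * w * x) * (x⁻¹ * y * g) = (y * g)⁻¹ * w * (y * g) := by group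
      rwa [e] at h1
  rcases p.par.sup_eq_or_inf_le p.Rs2 (syl_not_dvd p.syl) inf_le_left hYn with h1 | h1
  · exfalso
    apply p.nY
    rw [← h1]
    refine sup_le (fun x hx => ?_) (p.RsF₀ h)
    have := ((hmemN x).1 hx).2 1 (one_mem _)
    rwa [one_mul] at this
  · exact h1 ⟨p.ARs ha, (hmemN a).2 ⟨p.AY ha, hfix⟩⟩

theorem A_not_le [Finite G] (h : One F T F₀ 𝓐 U l Z) : ¬ A ≤ o2 Y := by
  intro h1
  obtain ⟨y, hy, hyn⟩ := SetLike.not_le_iff_exists.1 p.nY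
  exact p.not_fix h hy hyn (h1.trans ((p.o2_le_cj hy).trans h.cj_T_le))

/-- `[x, b]` is centralised by `a` if `[x, a]` is centralised by `b`. -/
theorem swap (h : One F T F₀ 𝓐 U l Z) {x a b : G} (hxΛ : x ∈ Λ) (ha : a ∈ A) (hb : b ∈ A)
    (h1 : b * (x * (a * x * a⁻¹)) = x * (a * x * a⁻¹) * b) : a * (x * (b * x * b⁻¹)) = x * (b * x * b⁻¹) * a := by
  have hax := One.conj_Lam (h.fam.le A p.hA ha) hxΛ
  have hbx := One.conj_Lam (h.fam.le A p.hA hb) hxΛ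
  have hw := elem_swap (h.fam.elem A p.hA) ha hb hxΛ
  have hwΛ := One.conj_Lam (h.fam.le A p.hA hb) hax
  set w := b * (a * x * a⁻¹) * b⁻¹ with hwdef
  have h2 : b * (x * (a * x * a⁻¹)) * b⁻¹ = x * (a * x * a⁻¹) := by rw [h1, mul_inv_cancel_right]
  have e1 : b * (x * (a * x * a⁻¹)) * b⁻¹ = (b * x * b⁻¹) * w := by rw [hwdef]; group
  have e2 : a * (x * (b * x * b⁻¹)) * a⁻¹ = (a * x * a⁻¹) * w := by
    rw [← hw]; group
  rw [e1] at h2
  have hbb := h.sq _ hbx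
  have haa := h.sq _ hax
  have e3 : w = (b * x * b⁻¹) * (x * (a * x * a⁻¹)) := by
    rw [← h2, ← mul_assoc, hbb, one_mul]
  have h3 : a * (x * (b * x * b⁻¹)) * a⁻¹ = x * (b * x * b⁻¹) := by
    rw [e2, e3]
    have c1 := h.comm _ hax _ hbx
    have c2 := h.comm x hxΛ _ hax
    have c3 := h.comm x hxΛ _ hbx
    calc (a * x * a⁻¹) * ((b * x * b⁻¹) * (x * (a * x * a⁻¹)))
        = ((a * x * a⁻¹) * (b * x * b⁻¹)) * (x * (a * x * a⁻¹)) := by group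
      _ = ((b * x * b⁻¹) * (a * x * a⁻¹)) * ((a * x * a⁻¹) * x) := by rw [c1, c2]
      _ = (b * x * b⁻¹) * ((a * x * a⁻¹) * (a * x * a⁻¹)) * x := by group
      _ = x * (b * x * b⁻¹) := by rw [haa, mul_one, c3]
  rw [mul_inv_eq_iff_eq_mul] at h3
  exact h3

/-- **(a)** -/
theorem quad [Finite G] (h : One F T F₀ 𝓐 U l Z) {y : G} (hy : y ∈ Y) (hyn : y ∉ cj g F₀) {i : ι} {x : G}
    (hx : x ∈ cj (y * g) (l i)) {a b : G} (ha : a ∈ A) (hb : b ∈ A) :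
    b * (x * (a * x * a⁻¹)) = x * (a * x * a⁻¹) * b := by
  classical
  set k := y * g with hk
  have hkF : k ∈ F := p.yF hy
  set lk := cj k (l i) with hl
  have hlΛ : lk ≤ Λ := (cj_mono k (h.l_le i)).trans (One.cjU_le_Lam hkF)
  have hmain : ⁅lk, A⁆ ≤ centralizer (A : Set G) := by
    by_contra hcon
    obtain ⟨B', hB', hBB', hB'B, h2⟩ := h.fam.exists_rep h.Lam_elab p.hA hlΛ
    have h3 := h.fam.cent h.Lam_elab p.hA hlΛ
    set B : Subgroup G := A ⊓ centralizer ((⁅lk, A⁆ : Subgroup G) : Set G) with hB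
    have hApN : B' ≤ normalizer (R : Set G) :=
      hB'B.trans (sup_le (inf_le_left.trans p.AN) (h.Lam_le_O.trans p.mx.On))
    have hApR : B' ≤ R := by
      by_contra h4
      exact absurd (p.Amax B' hB' hApN h4) (not_le.2 (h2 hcon))
    have hApk : B' ≤ cj k T := hApR.trans (p.R_le_o2.trans (p.o2_le_cj hy))
    have h4T : cj k⁻¹ B' ≤ T := by
      rw [cj_le_iff, inv_inv]
      exact hApk
    rcases h.H2 _ (h.fam.conj k⁻¹ (inv_mem hkF) B' hB') h4T i with h4 | h4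
    · -- `B'` centralises `l`
      apply hcon
      have h5 : ⁅lk, A⁆ = ⊥ := by
        refine commutator_eq_bot_iff_le_centralizer.2 (h3 fun b hb u hu => ?_)
        have h6 := h4 (k⁻¹ * b * k) (by
          have := conj_mem_cj (g := k⁻¹) (hBB' hb)
          rwa [inv_inv] at this) _ (mem_cj.1 hu)
        have e1 : k⁻¹ * b * k * (k⁻¹ * u * k) = k⁻¹ * (b * u) * k := by group
        have e2 : k⁻¹ * u * k * (k⁻¹ * b * k) = k⁻¹ * (u * b) * k := by group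
        rw [e1, e2] at h6
        exact mul_left_cancel (mul_right_cancel h6)
      rw [h5]
      exact bot_le
    · -- `A` centralises `Z i`
      refine p.not_fix h hy hyn fun a ha => h.H1' (i := i) hkF (h.fam.le A p.hA ha) fun x hx => ?_
      have h5 : cj k (Z i) ≤ centralizer (A : Set G) := by
        refine (cj_mono k h4).trans ?_
        rw [cj_le_iff, closure_le]
        rintro _ ⟨x, hx, a', ha', rfl⟩
        have h6 : k * x * k⁻¹ ∈ lk := conj_mem_cj hx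
        have h7 : k * a' * k⁻¹ ∈ B ⊔ Λ := by
          have h11 := mem_cj.1 ha'
          rw [inv_inv] at h11
          exact hB'B h11
        obtain ⟨b, hb, c, hc, hbc⟩ : ∃ b ∈ B, ∃ c ∈ Λ, b * c = k * a' * k⁻¹ := by
          refine NO3b.CTwo.mem_sup_of_le_norm (fun b hb => ?_) h7
          exact One.F_nor (h.fam.le A p.hA hb.1)
        have h8 : c * (k * x * k⁻¹) = (k * x * k⁻¹) * c := h.comm c hc _ (hlΛ h6)
        have h9 : (k * a' * k⁻¹) * (k * x * k⁻¹) * (k * a' * k⁻¹)⁻¹ = b * (k * x * k⁻¹) * b⁻¹ := by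
          rw [← hbc]
          calc b * c * (k * x * k⁻¹) * (b * c)⁻¹ = b * (c * (k * x * k⁻¹)) * c⁻¹ * b⁻¹ := by group
            _ = b * ((k * x * k⁻¹) * c) * c⁻¹ * b⁻¹ := by rw [h8]
            _ = _ := by group
        have h10 : ∀ a ∈ A, a * ((k * x * k⁻¹) * (b * (k * x * k⁻¹) * b⁻¹)) =
            ((k * x * k⁻¹) * (b * (k * x * k⁻¹) * b⁻¹)) * a := by
          intro a ha
          refine p.swap h (hlΛ h6) ha hb.1 ?_
          have hxi : (k * x * k⁻¹)⁻¹ = k * x * k⁻¹ := inv_eq_of_mul_eq_one_left (h.sq _ (hlΛ h6))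
          have h11 : ⁅k * x * k⁻¹, a⁆ = (k * x * k⁻¹) * (a * (k * x * k⁻¹) * a⁻¹) := by
            calc ⁅k * x * k⁻¹, a⁆ = (k * x * k⁻¹) * (a * (k * x * k⁻¹)⁻¹ * a⁻¹) := by
                  rw [commutatorElement_def]; group
              _ = _ := by rw [hxi]
          rw [← h11]
          exact (mem_centralizer_iff.1 hb.2 _ (commutator_mem_commutator h6 ha)).symm
        change x * (a' * x * a'⁻¹) ∈ cj k⁻¹ (centralizer (A : Set G))
        rw [mem_cj, inv_inv, mem_centralizer_iff]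
        intro a ha
        have e : k * (x * (a' * x * a'⁻¹)) * k⁻¹ =
            (k * x * k⁻¹) * ((k * a' * k⁻¹) * (k * x * k⁻¹) * (k * a' * k⁻¹)⁻¹) := by group
        rw [e, h9]
        exact h10 a ha
      exact mem_centralizer_iff.1 (h5 hx) a ha
  have hxi : x⁻¹ = x := inv_eq_of_mul_eq_one_left (h.sq x (hlΛ hx))
  have h1 : ⁅x, a⁆ = x * (a * x * a⁻¹) := by
    rw [commutatorElement_def, hxi]; group
  rw [← h1]
  exact mem_centralizer_iff.1 (hmain (commutator_mem_commutator hx ha)) b hb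

/-- The group `K' = ⟨U^{yg} : y ∈ Y moves the point⟩`. -/
def KK (U F₀ Y : Subgroup G) (g : G) : Subgroup G :=
  ⨆ y : {y : G // y ∈ Y ∧ y ∉ cj g F₀}, cj ((y : G) * g) U

omit p in
theorem le_KK {y : G} (hy : y ∈ Y) (hyn : y ∉ cj g F₀) : cj (y * g) U ≤ KK U F₀ Y g :=
  le_iSup (fun y : {y : G // y ∈ Y ∧ y ∉ cj g F₀} => cj ((y : G) * g) U) ⟨y, hy, hyn⟩

theorem KK_le : KK U F₀ Y g ≤ Λ := iSup_le fun y => One.cjU_le_Lam (p.yF y.2.1)

/-- The subgroup of `Λ` on which `a, b` act quadratically. -/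
theorem quad_sup [Finite G] (h : One F T F₀ 𝓐 U l Z) {a b : G} (ha : a ∈ A) {κ : Sort*} {W : κ → Subgroup G}
    (hW : ∀ k, W k ≤ Λ) (hq : ∀ k, ∀ x ∈ W k, b * (x * (a * x * a⁻¹)) = x * (a * x * a⁻¹) * b) {x : G}
    (hx : x ∈ ⨆ k, W k) : b * (x * (a * x * a⁻¹)) = x * (a * x * a⁻¹) * b := by
  have haF := h.fam.le A p.hA ha
  let L : Subgroup G :=
    { carrier := {x | x ∈ Λ ∧ b * (x * (a * x * a⁻¹)) = x * (a * x * a⁻¹) * b}
      one_mem' := ⟨one_mem _, by simp⟩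
      mul_mem' := by
        rintro x w ⟨hx, hx'⟩ ⟨hw, hw'⟩
        refine ⟨mul_mem hx hw, ?_⟩
        have h1 := h.comm w hw _ (One.conj_Lam haF hx)
        have e : x * w * (a * (x * w) * a⁻¹) = (x * (a * x * a⁻¹)) * (w * (a * w * a⁻¹)) := by
          calc x * w * (a * (x * w) * a⁻¹) = x * (w * (a * x * a⁻¹)) * (a * w * a⁻¹) := by group
            _ = x * ((a * x * a⁻¹) * w) * (a * w * a⁻¹) := by rw [h1]
            _ = _ := by group
        rw [e]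
        calc b * ((x * (a * x * a⁻¹)) * (w * (a * w * a⁻¹))) = (b * (x * (a * x * a⁻¹))) * (w * (a * w * a⁻¹)) := by
              group
          _ = (x * (a * x * a⁻¹)) * (b * (w * (a * w * a⁻¹))) := by rw [hx']; group
          _ = _ := by rw [hw']; group
      inv_mem' := by
        rintro x ⟨hx, hx'⟩
        have : x⁻¹ = x := inv_eq_of_mul_eq_one_left (h.sq x hx)
        rw [this]
        exact ⟨hx, hx'⟩ }
  have hL : (⨆ k, W k) ≤ L := iSup_le fun k w hw => ⟨hW k hw, hq k w hw⟩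
  exact (hL hx).2

/-- quadratic on `U^{yg}` -/
theorem quad' [Finite G] (h : One F T F₀ 𝓐 U l Z) {y : G} (hy : y ∈ Y) (hyn : y ∉ cj g F₀) {x : G}
    (hx : x ∈ cj (y * g) U) {a b : G} (ha : a ∈ A) (hb : b ∈ A) :
    b * (x * (a * x * a⁻¹)) = x * (a * x * a⁻¹) * b := by
  have hx' : x ∈ ⨆ i, cj (y * g) (l i) := by
    rw [← cj_iSup, ← h.sup]
    exact hx
  exact p.quad_sup h ha (fun i => (cj_mono _ (h.l_le i)).trans (One.cjU_le_Lam (p.yF hy)))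
    (fun i x hx => p.quad h hy hyn hx ha hb) hx'

/-- **(b), first case.** -/
theorem not_case_one [Finite G] (h : One F T F₀ 𝓐 U l Z) (hc : A ⊓ o2 Y ≤ centralizer (KK U F₀ Y g : Set G)) :
    ¬ cj g U ≤ KK U F₀ Y g := by
  intro hle
  set VA := cj g U with hVA
  set ΛY := NoFF.Basic.V VA Y with hΛY
  have hΛK : ΛY ≤ KK U F₀ Y g := by
    refine NoFF.Basic.V_le fun y hy => ?_
    change cj y (cj g U) ≤ _
    rw [cj_cj]
    by_cases hyn : y ∈ cj g F₀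
    · have h1 : cj y (KK U F₀ Y g) ≤ KK U F₀ Y g := by
        rw [KK, cj_iSup]
        refine iSup_le fun w => ?_
        rw [cj_cj, ← mul_assoc]
        refine le_KK (mul_mem hy w.2.1) fun h2 => w.2.2 ?_
        have := mul_mem (inv_mem hyn) h2
        rwa [inv_mul_cancel_left] at this
      rw [← cj_cj]
      exact (cj_mono y hle).trans h1
    · exact le_KK hy hyn
  have hΛL : ΛY ≤ Λ := hΛK.trans p.KK_le
  have hel : IsElementaryAbelian 2 ΛY := elab_mono h.Lam_elab hΛL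
  obtain ⟨i⟩ := h.ne
  have hYgen : Y ≤ oddGen Y ⊔ Rs := (Dich.oddGen_sup_syl p.syl).ge
  have xd : XD Rs Y VA := by
    refine ⟨p.Rs2, p.RsY, hYgen, p.o2_le_Rs, ?_, elab_comm hel, elab_sq hel, ?_⟩
    · refine p.RsT.trans ?_
      rw [← cj_normalizer]
      exact cj_mono g h.TU
    · intro h1
      apply p.nY
      have h2 : Y ≤ cj g (F ⊓ normalizer (U : Set G)) := by
        rw [cj_inf, cj_self p.gF, cj_normalizer]
        exact le_inf p.YF h1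
      exact h2.trans (cj_mono g h.H4)
  have hno : NoOvM Y ΛY := noOvM p.syl p.par (elab_comm hel) (elab_sq hel)
  have hEM : ElemM ΛY A := ⟨fun a ha => centralizer_le hΛL ((h.fam.elem A p.hA).sq a ha), fun a ha b hb =>
    centralizer_le hΛL ((h.fam.elem A p.hA).comm a ha b hb)⟩
  have h2 : ∃ c ∈ (⁅ΛY, o2 Y⁆ : Subgroup G), ∃ x ∈ oddGen Y, c * x ≠ x * c := by
    by_contra hcon
    push Not at hcon
    apply p.nY
    refine hYgen.trans (sup_le (fun x hx => ?_) (p.RsF₀ h))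
    refine h.H1' (i := i) p.gF (p.YF (oddGen_le Y hx)) fun c hc' => (hcon c ?_ x hx).symm
    have h3 := cj_mono g (h.H3 i) hc'
    have h4 : cj g (⁅U, o2 F⁆ : Subgroup G) = ⁅cj g U, cj g (o2 F)⁆ := map_commutator _ _ _
    rw [h4, cj_o2_self p.gF] at h3
    refine commutator_mono ?_ p.O_le_o2 h3
    have := NoFF.Basic.Z_le_V (Z := VA) (P := Y) (one_mem Y)
    rwa [map_one, one_smul] at this
  have h3 := xd.sq_leM hno h2 p.AY (h.fam.two A p.hA) hEM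
  have h4 := h.fam.off A p.hA _ hΛL
  have h5 : (centralizer (ΛY : Set G)).relIndex A ≤ (o2 Y).relIndex A := by
    rw [← inf_relIndex_right (o2 Y) A]
    refine relIndex_le_of_le_left ?_ (relIndex_ne _ _)
    rw [inf_comm]
    exact hc.trans (centralizer_le hΛK)
  have h6 := h3.trans (h4.trans h5)
  have h7 : 0 < (o2 Y).relIndex A := Nat.pos_of_ne_zero (relIndex_ne _ _)
  have h8 : (o2 Y).relIndex A ≤ 1 := Nat.le_of_mul_le_mul_left (h6.trans (by omega)) h7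
  exact p.A_not_le h (relIndex_eq_one.1 (by omega))

/-- **(b)** -/
theorem not_cent [Finite G] (h : One F T F₀ 𝓐 U l Z) : ¬ A ⊓ o2 Y ≤ centralizer (KK U F₀ Y g : Set G) := by
  classical
  intro hc
  have hno := p.not_case_one h hc
  have hAg : A ≤ cj g F₀ := p.ARs.trans (p.RsF₀ h)
  let P : Type u := {K : Subgroup G // ∃ y ∈ Y, y ∉ cj g F₀ ∧ K = cj (y * g) F₀}
  have hmemA : ∀ (a : A) (K : P), ∃ y ∈ Y, y ∉ cj g F₀ ∧ cj (a : G) K.1 = cj (y * g) F₀ := by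
    rintro a ⟨K, y, hy, hyn, rfl⟩
    refine ⟨a * y, mul_mem (p.AY a.2) hy, fun h1 => hyn ?_, by rw [cj_cj, mul_assoc]⟩
    have := mul_mem (inv_mem (hAg a.2)) h1
    rwa [inv_mul_cancel_left] at this
  let act : MulAction A P :=
    { smul := fun a K => ⟨cj (a : G) K.1, hmemA a K⟩
      one_smul := fun K => Subtype.ext (cj_one K.1)
      mul_smul := fun a b K => Subtype.ext (cj_cj (a : G) (b : G) K.1).symm }
  have hsm : ∀ (a : A) (K : P), (a • K).1 = cj (a : G) K.1 := fun a K => rfl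
  let W : P → Subgroup G := fun K => ⨆ y : {y : G // y ∈ Y ∧ cj (y * g) F₀ = K.1}, cj ((y : G) * g) U
  have hWdef : ∀ K : P, W K = ⨆ y : {y : G // y ∈ Y ∧ cj (y * g) F₀ = K.1}, cj ((y : G) * g) U := fun _ => rfl
  have leW : ∀ (K : P) (y : G), y ∈ Y → cj (y * g) F₀ = K.1 → cj (y * g) U ≤ W K := fun K y hy hK =>
    le_iSup (fun y : {y : G // y ∈ Y ∧ cj (y * g) F₀ = K.1} => cj ((y : G) * g) U) ⟨y, hy, hK⟩
  have hrep : ∀ (K : P) (y : G), y ∈ Y → cj (y * g) F₀ = K.1 → y ∉ cj g F₀ := by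
    rintro ⟨K, y₀, hy₀, hyn₀, rfl⟩ y hy hK hyg
    apply hyn₀
    have h1 : cj y (cj g F₀) = cj g F₀ := cj_self hyg
    have h2 : cj y (cj g F₀) = cj y₀ (cj g F₀) := by
      rw [cj_cj, cj_cj]
      exact hK
    exact h.mem_of_cj_eq (p.YF hy₀) p.gF (h2.symm.trans h1)
  have hKK : (⨆ K, W K) = KK U F₀ Y g := by
    apply le_antisymm
    · refine iSup_le fun K => iSup_le fun y => ?_
      exact le_KK y.2.1 (hrep K y y.2.1 y.2.2)
    · refine iSup_le fun y => ?_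
      exact (leW ⟨cj ((y : G) * g) F₀, y, y.2.1, y.2.2, rfl⟩ y y.2.1 rfl).trans (le_iSup W _)
  have hWa' : ∀ (a : A) (K : P), cj (a : G) (W K) ≤ W (a • K) := by
    intro a K
    rw [hWdef K, cj_iSup]
    refine iSup_le fun y => ?_
    rw [cj_cj, ← mul_assoc]
    refine leW (a • K) ((a : G) * y) (mul_mem (p.AY a.2) y.2.1) ?_
    have h1 := y.2.2
    rw [hsm, mul_assoc, ← cj_cj, h1]
  have hWa : ∀ (a : A) (K : P), cj (a : G) (W K) = W (a • K) := by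
    intro a K
    refine le_antisymm (hWa' a K) ?_
    have h1 := cj_mono (a : G) (hWa' a⁻¹ (a • K))
    rw [inv_smul_smul] at h1
    have h2 : ((a⁻¹ : A) : G) = (a : G)⁻¹ := rfl
    rwa [h2, cj_cj_inv] at h1
  have hne : Nonempty P := by
    obtain ⟨y, hy, hyn⟩ := SetLike.not_le_iff_exists.1 p.nY
    exact ⟨⟨_, y, hy, hyn, rfl⟩⟩
  have hfin : Finite P := Subtype.finite
  have hWL : ∀ K, W K ≤ Λ := fun K => iSup_le fun y => One.cjU_le_Lam (p.yF y.2.1)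
  have hq : ∀ K, ∀ x ∈ W K, ∀ a ∈ A, ∀ b ∈ A, b * (x * (a * x * a⁻¹)) = x * (a * x * a⁻¹) * b :=
    fun K x hx a ha b hb => p.quad_sup h ha
      (W := fun y : {y : G // y ∈ Y ∧ cj (y * g) F₀ = K.1} => cj ((y : G) * g) U)
      (fun y => One.cjU_le_Lam (p.yF y.2.1))
      (fun y x hx => p.quad' h y.2.1 (hrep K y y.2.1 y.2.2) hx ha hb) hx
  have hind : ∀ K, ¬ W K ≤ ⨆ K', ⨆ _ : K' ≠ K, W K' := by
    intro K hle
    obtain ⟨y, hy, hyn, hK⟩ := K.2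
    apply hno
    have h1 := cj_mono y⁻¹ ((leW K y hy hK.symm).trans hle)
    rw [← cj_cj, cj_inv_cj] at h1
    refine h1.trans ?_
    rw [cj_iSup]
    refine iSup_le fun K' => ?_
    rw [cj_iSup]
    refine iSup_le fun hK' => ?_
    rw [hWdef, cj_iSup]
    refine iSup_le fun y' => ?_
    rw [cj_cj, ← mul_assoc]
    refine le_KK (mul_mem (inv_mem hy) y'.2.1) fun h2 => hK' (Subtype.ext ?_)
    rw [← y'.2.2, hK]
    have e : (y' : G) * g = y * ((y⁻¹ * y') * g) := by group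
    rw [e, ← cj_cj y, ← cj_cj (y⁻¹ * y') g, cj_self h2, cj_cj]
  have hmv : ∀ K : P, ∃ a : A, a • K ≠ K := by
    intro K
    obtain ⟨y, hy, hyn, hK⟩ := K.2
    obtain ⟨a, ha, han⟩ := SetLike.not_le_iff_exists.1 (p.not_fix h hy hyn)
    refine ⟨⟨a, ha⟩, fun h1 => han ?_⟩
    have h2 := congrArg Subtype.val h1
    rw [hsm, hK] at h2
    exact h.mem_of_cj_eq (h.fam.le A p.hA ha) (p.yF hy) h2
  -- `O` normalises all `U^{yg}`, so all `W K`
  have hOU : ∀ y ∈ Y, o2 F ≤ normalizer ((cj (y * g) U : Subgroup G) : Set G) := by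
    intro y hy
    rw [← cj_normalizer]
    exact (h.O_le_cj (p.yF hy)).trans (cj_mono _ h.TU)
  have hOW : ∀ K, o2 F ≤ normalizer ((W K : Subgroup G) : Set G) := by
    intro K o ho
    rw [mem_normalizer_iff_cj, hWdef, cj_iSup]
    exact iSup_congr fun y => cj_eq_of_mem_normalizer (hOU y y.2.1 ho)
  obtain ⟨i⟩ := h.ne
  have hl : ∀ K, 4 ≤ (centralizer (A : Set G)).relIndex (W K) := by
    intro K
    by_contra hcon
    push Not at hcon
    obtain ⟨y, hy, hyn, hK⟩ := K.2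
    obtain ⟨a, haK⟩ := hmv K
    set C := centralizer (A : Set G) ⊓ W K with hC
    set M := W K ⊓ ⨆ K', ⨆ _ : K' ≠ K, W K' with hM
    have hCW : C ≤ W K := inf_le_right
    have hMW : M ≤ W K := inf_le_left
    have hCM : C ≤ M := by
      rintro x ⟨hx1, hx2⟩
      refine ⟨hx2, ?_⟩
      have h1 : x ∈ W (a • K) := by
        rw [← hWa]
        have h3 := mem_centralizer_iff.1 hx1 (a : G) a.2
        have : (a : G) * x * (a : G)⁻¹ = x := by rw [h3, mul_inv_cancel_right]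
        rw [← this]
        exact conj_mem_cj hx2
      exact (le_iSup₂ (f := fun K' (_ : K' ≠ K) => W K') (a • K) haK) h1
    have hMne : M ≠ W K := fun h1 => hind K (inf_eq_left.1 h1)
    have hrel : (centralizer (A : Set G)).relIndex (W K) = C.relIndex M * M.relIndex (W K) := by
      rw [relIndex_mul_relIndex C M (W K) hCM hMW, inf_relIndex_right]
    have h0C : C.relIndex M ≠ 0 := relIndex_ne _ _
    have h0M : M.relIndex (W K) ≠ 0 := relIndex_ne _ _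
    have h1M : M.relIndex (W K) ≠ 1 := fun h1 => hMne (le_antisymm hMW (relIndex_eq_one.1 h1))
    have hM2 : M.relIndex (W K) = 2 ∧ C.relIndex M = 1 := by
      have : Fact (Nat.Prime 2) := ⟨Nat.prime_two⟩
      rw [hrel] at hcon
      have h2 : 2 ≤ M.relIndex (W K) := by omega
      have h3 : M.relIndex (W K) ≤ 3 := by
        by_contra h4
        have h5 : 4 ≤ M.relIndex (W K) := by omega
        have h6 : 1 * 4 ≤ C.relIndex M * M.relIndex (W K) := Nat.mul_le_mul (by omega) h5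
        omega
      have h4 : C.relIndex M = 1 := by
        by_contra h5
        have h6 : 2 ≤ C.relIndex M := by omega
        have h7 := Nat.mul_le_mul h6 h2
        omega
      refine ⟨?_, h4⟩
      obtain ⟨n, hn⟩ := (isPGroup_of_elab (elab_mono h.Lam_elab (hWL K))).index (M.subgroupOf (W K))
      change M.relIndex (W K) = 2 ^ n at hn
      match n, hn with
      | 0, hn => exact absurd hn h1M
      | 1, hn => rw [hn]; norm_num
      | n + 2, hn =>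
        exfalso
        have : 2 ^ 2 ≤ 2 ^ (n + 2) := Nat.pow_le_pow_right (by norm_num) (by omega)
        omega
    have hMC : M = C := le_antisymm (relIndex_eq_one.1 hM2.2) hCM
    -- `[W, O] ≤ M`
    have hMn : o2 F ≤ normalizer ((M : Subgroup G) : Set G) := by
      intro o ho
      have e : cj o M = cj o (W K) ⊓ cj o (⨆ K', ⨆ _ : K' ≠ K, W K') := cj_inf _ _ _
      rw [mem_normalizer_iff_cj, e, cj_eq_of_mem_normalizer (hOW K ho), cj_iSup]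
      have e2 : (⨆ K', cj o (⨆ _ : K' ≠ K, W K')) = ⨆ K', ⨆ _ : K' ≠ K, W K' := by
        refine iSup_congr fun K' => ?_
        rw [cj_iSup]
        exact iSup_congr fun _ => cj_eq_of_mem_normalizer (hOW K' ho)
      rw [e2]
    have hcom : ⁅W K, o2 F⁆ ≤ M := by
      rw [commutator_le]
      intro x hx o ho
      by_cases hxM : x ∈ M
      · have h1 := (mem_normalizer_iff.1 (hMn ho) x⁻¹).1 (inv_mem hxM)
        have h2 := mul_mem hxM h1
        have e : x * (o * x⁻¹ * o⁻¹) = ⁅x, o⁆ := by rw [commutatorElement_def]; group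
        rwa [e] at h2
      · have hox : o * x * o⁻¹ ∉ M := fun h1 => hxM ((mem_normalizer_iff.1 (hMn ho) x).2 h1)
        have hoxW : o * x * o⁻¹ ∈ W K := (mem_normalizer_iff.1 (hOW K ho) x).1 hx
        have h3 := (mul_mem_iff_of_index_two hM2.1 (a := ⟨x, hx⟩) (b := ⟨(o * x * o⁻¹)⁻¹, inv_mem hoxW⟩)).2
          ⟨fun h => absurd h hxM, fun h => absurd (by
            have := inv_mem h
            rw [mem_subgroupOf] at this
            simpa using this) hox⟩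
        rw [mem_subgroupOf] at h3
        have e : x * (o * x * o⁻¹)⁻¹ = ⁅x, o⁆ := by rw [commutatorElement_def]; group
        rw [← e]
        exact h3
    -- `A` centralises a conjugate of `Z i`
    refine p.not_fix h hy hyn fun b hb => h.H1' (i := i) (p.yF hy) (h.fam.le A p.hA hb) fun x hx => ?_
    have h3 := cj_mono (y * g) (h.H3 i) hx
    have h4 : cj (y * g) (⁅U, o2 F⁆ : Subgroup G) = ⁅cj (y * g) U, cj (y * g) (o2 F)⁆ := map_commutator _ _ _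
    rw [h4, cj_o2_self (p.yF hy)] at h3
    have h5 : x ∈ M := hcom (commutator_mono (leW K y hy hK.symm) le_rfl h3)
    rw [hMC] at h5
    exact mem_centralizer_iff.1 h5.1 b hb
  have h0 : ∀ a : A, (∀ K : P, a • K = K) → (a : G) ∈ A ⊓ o2 Y := by
    intro a ha
    refine ⟨a.2, p.ker h a.2 fun y hy => ?_⟩
    by_cases hyn : y ∈ cj g F₀
    · rw [← cj_cj, cj_self hyn]
      exact hAg a.2
    · have h1 := congrArg Subtype.val (ha ⟨cj (y * g) F₀, y, hy, hyn, rfl⟩)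
      rw [hsm] at h1
      exact h.mem_of_cj_eq (h.fam.le A p.hA a.2) (p.yF hy) h1
  have main := count_points' h.comm W hWL hWa hq hind hmv hl h0
  rw [hKK] at main
  have h4 := h.fam.off A p.hA _ p.KK_le
  have h5 : (centralizer (KK U F₀ Y g : Set G)).relIndex A ≤ (A ⊓ o2 Y).relIndex A :=
    relIndex_le_of_le_left hc (relIndex_ne _ _)
  have h7 : 0 < (A ⊓ o2 Y).relIndex A := Nat.pos_of_ne_zero (relIndex_ne _ _)
  omega

end GPan

/-- **STEP 1, general form.** -/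
theorem One.exists_one [Finite G] (h : One F T F₀ 𝓐 U l Z) : ∃ c ∈ T, (∀ u ∈ U, c * (c * u * c⁻¹) * c⁻¹ = u) ∧
    (∃ u ∈ U, c * u ≠ u * c) ∧
    ∃ a ∈ F, a ∉ F₀ ∧ ∀ u ∈ U, a * (u * (c * u * c⁻¹)) = u * (c * u * c⁻¹) * a := by
  classical
  obtain ⟨R, A, Y, Rs, g, p⟩ := h.exists_pan
  have hnc := p.not_cent h
  obtain ⟨y, hy, hyn, c, hc, x₀, hx₀, hcx⟩ : ∃ y ∈ Y, y ∉ cj g F₀ ∧ ∃ c ∈ A ⊓ o2 Y,
      ∃ x ∈ cj (y * g) U, c * x ≠ x * c := by
    by_contra hcon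
    push Not at hcon
    apply hnc
    rw [le_centralizer_iff, GPan.KK]
    refine iSup_le fun y x hx => ?_
    exact mem_centralizer_iff.2 fun c hc => hcon y y.2.1 y.2.2 c hc x hx
  set k := y * g with hk
  have hkF : k ∈ F := p.yF hy
  have hcT : k⁻¹ * c * k ∈ T := by
    rw [← mem_cj]
    exact p.o2_le_cj hy hc.2
  obtain ⟨a, ha, han⟩ := SetLike.not_le_iff_exists.1 (p.not_fix h hy hyn)
  have hconj : ∀ x : G, k⁻¹ * c * k * x * (k⁻¹ * c * k)⁻¹ = k⁻¹ * (c * (k * x * k⁻¹) * c⁻¹) * k := by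
    intro x; group
  refine ⟨k⁻¹ * c * k, hcT, ?_, ⟨k⁻¹ * x₀ * k, mem_cj.1 hx₀, fun h1 => hcx ?_⟩, k⁻¹ * a * k,
    mul_mem (mul_mem (inv_mem hkF) (h.fam.le A p.hA ha)) hkF, fun h1 => han (mem_cj.2 h1), ?_⟩
  · intro u hu
    have hu' : k * u * k⁻¹ ∈ NoFF.Basic.V U F := One.cjU_le_Lam hkF (conj_mem_cj hu)
    have h1 := elem_two (h.fam.elem A p.hA) hc.1 hu'
    calc k⁻¹ * c * k * (k⁻¹ * c * k * u * (k⁻¹ * c * k)⁻¹) * (k⁻¹ * c * k)⁻¹
        = k⁻¹ * (c * (c * (k * u * k⁻¹) * c⁻¹) * c⁻¹) * k := by group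
      _ = k⁻¹ * (k * u * k⁻¹) * k := by rw [h1]
      _ = u := by group
  · have e1 : k⁻¹ * c * k * (k⁻¹ * x₀ * k) = k⁻¹ * (c * x₀) * k := by group
    have e2 : k⁻¹ * x₀ * k * (k⁻¹ * c * k) = k⁻¹ * (x₀ * c) * k := by group
    rw [e1, e2] at h1
    exact mul_left_cancel (mul_right_cancel h1)
  · intro x hx
    have h1 := p.quad' h hy hyn (conj_mem_cj (g := k) hx) hc.1 ha
    rw [hconj]
    have h2 := congrArg (fun t => k⁻¹ * t * k) h1
    have e1 : k⁻¹ * (a * (k * x * k⁻¹ * (c * (k * x * k⁻¹) * c⁻¹))) * k =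
        k⁻¹ * a * k * (x * (k⁻¹ * (c * (k * x * k⁻¹) * c⁻¹) * k)) := by group
    have e2 : k⁻¹ * (k * x * k⁻¹ * (c * (k * x * k⁻¹) * c⁻¹) * a) * k =
        x * (k⁻¹ * (c * (k * x * k⁻¹) * c⁻¹) * k) * (k⁻¹ * a * k) := by group
    rw [e1, e2] at h2
    exact h2

end Cfsg.Agent.Omega.OM.Swap.Fam
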