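import Cfsg.Agent.Omega.OM.Swap.Fam.Fm

/-!
# THEOREM SW over a family, STEP 2

`Two.false`.
-/

set_option autoImplicit false

namespace Cfsg.Agent.Omega.OM.Swap.Fam

open Subgroup Cfsg Cfsg.Agent.ZN Cfsg.Agent.ZN.ChoiceBase Cfsg.Agent.ZN.ChoiceSit Cfsg.Agent.Omega.NoFF.Basic
  Cfsg.Agent.MinSimple.VModule Cfsg.Agent.Omega.OmThm
open Cfsg.Agent.Omega.OM.Swap hiding Two
open Cfsg.Agent.MinSimple.MinParabolic (IsMinPar)
open Cfsg.Agent.Omega.FFThm (ElemM)
open scoped Pointwise commutatorElement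

universe u

variable {G : Type u} [Group G] {F T : Subgroup G} {𝓐 : Set (Subgroup G)}

/-- The situation of STEP 2. -/
structure Two (F T : Subgroup G) (𝓐 : Set (Subgroup G)) (U D : Subgroup G) (z : G) (E : Bool → Subgroup G) : Prop where
  syl : Syl T F
  par : IsMinPar T F
  fam : Fm F (V U F) 𝓐
  nJ : ∃ A ∈ 𝓐, ¬ A ≤ o2 F
  TU : T ≤ normalizer (U : Set G)
  UO : U ≤ o2 F
  comm : ∀ x ∈ V U F, ∀ y ∈ V U F, x * y = y * x
  sq : ∀ x ∈ V U F, x * x = 1
  nU : ¬ F ≤ normalizer (U : Set G)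
  loc : Loc (o2 F) U D z
  zF : ∀ f ∈ F, f * z = z * f
  Ecard : ∀ b, Nat.card (E b) = 4
  Ene : E true ≠ E false
  EU : ∀ b, ∃ f ∈ F, E b = U ⊓ cj f U
  cenA : ∀ A ∈ 𝓐, A ≤ o2 F → ∀ a ∈ A, ∀ u ∈ U, a * u = u * a
  non : ∃ c ∈ (⁅V U F, o2 F⁆ : Subgroup G), ∃ x ∈ oddGen F, c * x ≠ x * c

namespace Two

variable {U D : Subgroup G} {z : G} {E : Bool → Subgroup G}

theorem xd [Finite G] (h : Two F T 𝓐 U D z E) : XD T F U where
  S2 := h.syl.2.1
  SX := h.syl.1
  gen := (Dich.oddGen_sup_syl h.syl).ge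
  QS := o2_le_syl h.syl
  SU := h.TU
  comm := h.comm
  sq := h.sq
  nU := h.nU

theorem cjU_le {g : G} (hg : g ∈ F) : cj g U ≤ V U F := Z_le_V hg

theorem loc' [Finite G] (h : Two F T 𝓐 U D z E) {g : G} (hg : g ∈ F) : Loc (o2 F) (cj g U) (cj g D) z :=
  h.loc.conj (cj_o2_self hg) (h.zF g hg)

theorem F_le (_ : Two F T 𝓐 U D z E) : F ≤ normalizer (V U F : Set G) := XD.X_le_normalizer_W

theorem V_le_O (h : Two F T 𝓐 U D z E) : V U F ≤ o2 F := V_le fun p hp => by
  have h1 : cj p U ≤ cj p (o2 F) := cj_mono p h.UO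
  rw [cj_o2_self hp] at h1
  exact h1

theorem V_le_F (h : Two F T 𝓐 U D z E) : V U F ≤ F := h.V_le_O.trans (ChoiceSit.o2_le F)

theorem isElab (h : Two F T 𝓐 U D z E) : IsElementaryAbelian 2 (V U F) := elab_of h.comm h.sq

theorem cenA' (h : Two F T 𝓐 U D z E) {A : Subgroup G} (hA : A ∈ 𝓐) (hAO : A ≤ o2 F) :
    A ≤ centralizer (V U F : Set G) := by
  rw [le_centralizer_iff]
  refine V_le fun p hp => ?_
  intro x hx
  rw [mem_centralizer_iff]
  intro a ha
  have h1 : cj p⁻¹ A ≤ o2 F := by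
    have := cj_mono p⁻¹ hAO
    rwa [cj_o2_self (inv_mem hp)] at this
  have h2 := h.cenA _ (h.fam.conj _ (inv_mem hp) A hA) h1 (p⁻¹ * a * p)
    (by rw [mem_cj]; have : p⁻¹⁻¹ * (p⁻¹ * a * p) * p⁻¹ = a := by group
        rwa [this]) (p⁻¹ * x * p) (mem_cj.1 hx)
  have h3 := congrArg (fun t => p * t * p⁻¹) h2
  simpa [mul_assoc] using h3

/-- The subgroup of all `x ∈ Λ` with `[x, c] ∈ ⟨z⟩`. -/
def NN (h : Two F T 𝓐 U D z E) {c : G} (hc : c ∈ o2 F) : Subgroup G where
  carrier := {x | x ∈ V U F ∧ (x * (c * x * c⁻¹) = 1 ∨ x * (c * x * c⁻¹) = z)}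
  one_mem' := ⟨one_mem _, Or.inl (by simp)⟩
  mul_mem' := by
    rintro x y ⟨hx, hx'⟩ ⟨hy, hy'⟩
    refine ⟨mul_mem hx hy, ?_⟩
    have hcx : c * x * c⁻¹ ∈ V U F := (mem_normalizer_iff.1 (h.F_le (ChoiceSit.o2_le F hc)) x).1 hx
    have e1 : x * y * (c * (x * y) * c⁻¹) = (x * (c * x * c⁻¹)) * (y * (c * y * c⁻¹)) := by
      have h1 := h.comm y hy _ hcx
      calc x * y * (c * (x * y) * c⁻¹) = x * (y * (c * x * c⁻¹)) * (c * y * c⁻¹) := by group
        _ = x * ((c * x * c⁻¹) * y) * (c * y * c⁻¹) := by rw [h1]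
        _ = _ := by group
    have hzz : z * z = 1 := h.loc.sq z h.loc.zU
    rw [e1]
    rcases hx' with hx' | hx' <;> rcases hy' with hy' | hy' <;> rw [hx', hy'] <;> simp [hzz]
  inv_mem' := by
    rintro x ⟨hx, hx'⟩
    have : x⁻¹ = x := inv_eq_of_mul_eq_one_left (h.sq x hx)
    rw [this]
    exact ⟨hx, hx'⟩

theorem mem_NN (h : Two F T 𝓐 U D z E) {c : G} (hc : c ∈ o2 F) {x : G} :
    x ∈ h.NN hc ↔ x ∈ V U F ∧ (x * (c * x * c⁻¹) = 1 ∨ x * (c * x * c⁻¹) = z) := Iff.rfl

theorem comm_eq [Finite G] (h : Two F T 𝓐 U D z E) {x o : G} (hx : x ∈ V U F) (ho : o ∈ o2 F) :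
    ⁅x, o⁆ = x * (o * x * o⁻¹) := by
  have : x⁻¹ = x := inv_eq_of_mul_eq_one_left (h.sq x hx)
  rw [commutatorElement_def, this]
  group

theorem le_NN [Finite G] (h : Two F T 𝓐 U D z E) {c : G} (hc : c ∈ o2 F) : (⁅V U F, o2 F⁆ : Subgroup G) ≤ h.NN hc := by
  rw [commutator_le]
  intro x hx o ho
  -- the subgroup of the `x ∈ Λ` with `[x, o] ∈ NN c`
  let L : Subgroup G :=
    { carrier := {x | x ∈ V U F ∧ x * (o * x * o⁻¹) ∈ h.NN hc}
      one_mem' := ⟨one_mem _, by
        have : (1 : G) * (o * 1 * o⁻¹) = 1 := by group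
        rw [this]
        exact one_mem _⟩
      mul_mem' := by
        rintro x y ⟨hx, hx'⟩ ⟨hy, hy'⟩
        refine ⟨mul_mem hx hy, ?_⟩
        have hcx : o * x * o⁻¹ ∈ V U F := (mem_normalizer_iff.1 (h.F_le (ChoiceSit.o2_le F ho)) x).1 hx
        have e1 : x * y * (o * (x * y) * o⁻¹) = (x * (o * x * o⁻¹)) * (y * (o * y * o⁻¹)) := by
          have h1 := h.comm y hy _ hcx
          calc x * y * (o * (x * y) * o⁻¹) = x * (y * (o * x * o⁻¹)) * (o * y * o⁻¹) := by group
            _ = x * ((o * x * o⁻¹) * y) * (o * y * o⁻¹) := by rw [h1]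
            _ = _ := by group
        rw [e1]
        exact mul_mem hx' hy'
      inv_mem' := by
        rintro x ⟨hx, hx'⟩
        have : x⁻¹ = x := inv_eq_of_mul_eq_one_left (h.sq x hx)
        rw [this]
        exact ⟨hx, hx'⟩ }
  have hL : V U F ≤ L := V_le fun g hg y hy => by
    have hy' : y ∈ cj g U := hy
    have h1 := (h.loc' hg).s1 o ho y hy'
    have h2 : y * (o * y * o⁻¹) ∈ h.NN hc :=
      ⟨cjU_le hg ((h.loc' hg).DU h1), (h.loc' hg).s2 c hc _ h1⟩
    exact ⟨cjU_le hg hy', h2⟩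
  rw [h.comm_eq hx ho]
  exact (hL hx).2

/-- The step of the chain. `B` centralises all `[x, b]`, `x ∈ Λ`, `b ∈ B`. -/
theorem step [Finite G] (h : Two F T 𝓐 U D z E) {B : Subgroup G} (hB : B ≤ o2 F)
    (hq : ∀ x ∈ V U F, ∀ b ∈ B, ∀ b' ∈ B, b' * (x * (b * x * b⁻¹)) = x * (b * x * b⁻¹) * b')
    (hn : ¬ B ≤ centralizer (V U F : Set G)) :
    ∃ B' : Subgroup G, B' < B ∧ B ⊓ centralizer (V U F : Set G) ≤ B' ∧ B'.relIndex B ≤ 2 ∧
      4 * (⁅V U F, o2 F⁆ ⊔ (V U F ⊓ centralizer (B' : Set G))).relIndex (V U F) ≤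
        (⁅V U F, o2 F⁆ ⊔ (V U F ⊓ centralizer (B : Set G))).relIndex (V U F) := by
  classical
  -- a moved conjugate
  obtain ⟨g, hg, c, hcB, hm⟩ : ∃ g ∈ F, ∃ c ∈ B, ∃ u ∈ cj g U, c * u ≠ u * c := by
    by_contra hcon
    push Not at hcon
    apply hn
    rw [le_centralizer_iff]
    exact V_le fun g hg x hx => mem_centralizer_iff.2 fun c hc => hcon g hg c hc x hx
  have hc := hB hcB
  have L := h.loc' hg
  set B' : Subgroup G := B ⊓ centralizer ((cj g U : Subgroup G) : Set G) with hB'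
  have hVc : centralizer (V U F : Set G) ≤ centralizer ((cj g U : Subgroup G) : Set G) :=
    centralizer_le (cjU_le hg)
  have hcB' : c ∉ B' := by
    intro h1
    obtain ⟨u, hu, hne⟩ := hm
    exact hne (mem_centralizer_iff.1 h1.2 u hu).symm
  have hlt : B' < B := lt_of_le_of_ne inf_le_left fun h1 => hcB' (h1 ▸ hcB)
  refine ⟨B', hlt, inf_le_inf_left _ hVc, ?_, ?_⟩
  · -- index ≤ 2
    refine Nat.le_of_dvd (by norm_num) (relIndex_dvd_two_iff.2 ⟨c⁻¹, inv_mem hcB, fun b hb => ?_⟩)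
    by_cases hbB : b ∈ B'
    · exact Or.inr hbB
    left
    have hbm : ∃ u ∈ cj g U, b * u ≠ u * b := by
      by_contra hcon
      push Not at hcon
      exact hbB ⟨hb, mem_centralizer_iff.2 fun u hu => (hcon u hu).symm⟩
    have h1 := (L.same hc (hB hb) hm hbm fun u hu => hq u (cjU_le hg hu) c hcB b hb).2
    refine mem_inf.2 ⟨mul_mem hb (inv_mem hcB), mem_centralizer_iff.2 fun u hu => ?_⟩
    -- `b c⁻¹ u c b⁻¹ = u`
    have hu' : c⁻¹ * u * c ∈ cj g U := by
      have := L.nor c⁻¹ (inv_mem hc) u hu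
      rwa [inv_inv] at this
    have h2 := h1 _ hu'
    have h3 : c * (c⁻¹ * u * c) * c⁻¹ = u := by group
    rw [h3] at h2
    -- `u = b c⁻¹ u c b⁻¹`
    calc u * (b * c⁻¹) = (b * (c⁻¹ * u * c) * b⁻¹) * (b * c⁻¹) := by rw [← h2]
      _ = b * c⁻¹ * u := by group
  · -- the two vectors
    obtain ⟨b, hb⟩ : ∃ b, cj g (E b) ≠ ce (cj g U) c := by
      by_contra hcon
      push Not at hcon
      have h1 := (hcon true).trans (hcon false).symm
      have h2 := congrArg (cj g⁻¹) h1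
      rw [cj_inv_cj, cj_inv_cj] at h2
      exact h.Ene h2
    obtain ⟨f, hf, hEf⟩ := h.EU b
    set Es : Subgroup G := cj g (E b) with hEs
    have hEs' : Es = cj g U ⊓ cj (g * f) U := by
      rw [hEs, hEf, cj_inf, cj_cj]
    have hEsc : Nat.card Es = 4 := by rw [hEs, card_cj, h.Ecard]
    have hgf : g * f ∈ F := mul_mem hg hf
    have L' := h.loc' hgf
    -- `c` does not centralise `Es`
    have hcE : ¬ ∀ x ∈ Es, c * x = x * c := by
      intro h1
      apply hb
      apply eq_of_le_of_card_ge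
      · intro x hx
        exact mem_ce.2 ⟨by rw [hEs'] at hx; exact hx.1, h1 x hx⟩
      · rw [L.c4 c hc hm, hEsc]
    have hm' : ∃ u ∈ cj (g * f) U, c * u ≠ u * c := by
      by_contra hcon
      push Not at hcon
      exact hcE fun x hx => hcon x (by rw [hEs'] at hx; exact hx.2)
    -- `B'` centralises the second conjugate
    have hB'c : ∀ d ∈ B', ∀ u ∈ cj (g * f) U, d * u = u * d := by
      intro d hd
      by_contra hcon
      push Not at hcon
      have hd4 := L'.c4 d (hB hd.1) hcon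
      have h1 : Es ≤ ce (cj (g * f) U) d := by
        intro x hx
        rw [hEs'] at hx
        exact mem_ce.2 ⟨hx.2, (mem_centralizer_iff.1 hd.2 x hx.1).symm⟩
      have h2 : Es = ce (cj (g * f) U) d := eq_of_le_of_card_ge h1 (by rw [hd4, hEsc])
      have h3 := (L'.same hc (hB hd.1) hm' hcon fun u hu => hq u (cjU_le hgf hu) c hcB d hd.1).1
      apply hcE
      intro x hx
      rw [h2, ← h3] at hx
      exact (mem_ce.1 hx).2
    obtain ⟨v, hv, hvD⟩ := L.Dne
    obtain ⟨w, hw, hwD⟩ := L'.Dne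
    obtain ⟨v1, v2⟩ := L.s3 c hc hm v hv hvD
    obtain ⟨w1, w2⟩ := L'.s3 c hc hm' w hw hwD
    have hvV := cjU_le hg hv
    have hwV := cjU_le hgf hw
    have hcent : ∀ x ∈ V U F, (∀ d ∈ B', d * x = x * d) →
        x ∈ ⁅V U F, o2 F⁆ ⊔ (V U F ⊓ centralizer (B' : Set G)) := fun x hx hd =>
      mem_sup_right ⟨hx, mem_centralizer_iff.2 fun d hd' => hd d hd'⟩
    set X : Subgroup G := ⁅V U F, o2 F⁆ ⊔ (V U F ⊓ centralizer (B' : Set G)) with hX
    set N : Subgroup G := ⁅V U F, o2 F⁆ ⊔ (V U F ⊓ centralizer (B : Set G)) with hN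
    have hNN : N ≤ h.NN hc := by
      refine sup_le (h.le_NN hc) ?_
      rintro x ⟨hx, hx'⟩
      refine ⟨hx, Or.inl ?_⟩
      rw [mem_centralizer_iff.1 hx' c hcB, mul_inv_cancel_right]
      exact h.sq x hx
    have hXV : X ≤ V U F := sup_le (XD.comm_le_W h.xd) inf_le_left
    have hNX : N ≤ X := sup_le_sup_left (inf_le_inf_left _ (centralizer_le hlt.le)) _
    have hX2 : IsPGroup 2 X := isPGroup_of_elab (elab_mono h.isElab hXV)
    have hvw : v * w ∉ h.NN hc := by
      rintro ⟨-, h1⟩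
      have hcv : c * v * c⁻¹ ∈ V U F := cjU_le hg (L.nor c hc v hv)
      have e1 : v * w * (c * (v * w) * c⁻¹) = (v * (c * v * c⁻¹)) * (w * (c * w * c⁻¹)) := by
        have h2 := h.comm w hwV _ hcv
        calc v * w * (c * (v * w) * c⁻¹) = v * (w * (c * v * c⁻¹)) * (c * w * c⁻¹) := by group
          _ = v * ((c * v * c⁻¹) * w) * (c * w * c⁻¹) := by rw [h2]
          _ = _ := by group
      rw [e1] at h1
      set p := v * (c * v * c⁻¹) with hp
      set q := w * (c * w * c⁻¹) with hq'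
      have hpU : p ∈ cj g U := mul_mem hv (L.nor c hc v hv)
      have hqU : q ∈ cj (g * f) U := mul_mem hw (L'.nor c hc w hw)
      have hpU' : p ∈ cj (g * f) U := by
        have hqi : q * q = 1 := L'.sq q hqU
        rcases h1 with h1 | h1
        · have : p = q := by
            calc p = p * q * q := by rw [mul_assoc, hqi, mul_one]
              _ = q := by rw [h1, one_mul]
          rw [this]
          exact hqU
        · have : p = z * q := by
            calc p = p * q * q := by rw [mul_assoc, hqi, mul_one]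
              _ = z * q := by rw [h1]
          rw [this]
          exact mul_mem L'.zU hqU
      have hpE : p ∈ Es ⊓ centralizer ({c} : Set G) := by
        refine ⟨by rw [hEs']; exact ⟨hpU, hpU'⟩, ?_⟩
        have h2 := L.c5 c hc v hv
        rw [← hp, mul_inv_eq_iff_eq_mul] at h2
        exact mem_centralizer_singleton_iff.2 h2.symm
      have hzE : z ∈ Es ⊓ centralizer ({c} : Set G) := by
        refine ⟨by rw [hEs']; exact ⟨L.zU, L'.zU⟩, ?_⟩
        exact mem_centralizer_singleton_iff.2 (h.zF c (ChoiceSit.o2_le F hc)).symm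
      -- order at least 3, hence 4
      have h4 : Es ⊓ centralizer ({c} : Set G) = Es := by
        apply eq_of_le_of_card_ge inf_le_left
        rw [hEsc]
        have hdvd : Nat.card ↥(Es ⊓ centralizer ({c} : Set G)) ∣ 4 := by
          rw [← hEsc]
          exact card_dvd_of_le inf_le_left
        have h3 : 2 < Nat.card ↥(Es ⊓ centralizer ({c} : Set G)) := by
          change 2 < Nat.card ((Es ⊓ centralizer ({c} : Set G) : Subgroup G) : Set G)
          rw [Nat.card_coe_set_eq, Set.two_lt_ncard_iff]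
          exact ⟨1, p, z, one_mem _, hpE, hzE, fun h => v1 h.symm, fun h => L.z1 h.symm, v2⟩
        have h5 : Nat.card ↥(Es ⊓ centralizer ({c} : Set G)) ≤ 4 := Nat.le_of_dvd (by norm_num) hdvd
        by_contra h6
        have h7 : Nat.card ↥(Es ⊓ centralizer ({c} : Set G)) = 3 := by omega
        rw [h7] at hdvd
        norm_num at hdvd
      apply hcE
      intro x hx
      rw [← h4] at hx
      exact (mem_centralizer_singleton_iff.1 hx.2).symm
    have h4 : 4 ≤ N.relIndex X := by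
      refine four_le hX2 (hcent v hvV fun d hd => (mem_centralizer_iff.1 hd.2 v hv).symm)
        (hcent w hwV fun d hd => hB'c d hd w hw) (fun h1 => ?_) (fun h1 => ?_) (fun h1 => hvw (hNN h1))
      · rcases (hNN h1).2 with h2 | h2
        · exact v1 h2
        · exact v2 h2
      · rcases (hNN h1).2 with h2 | h2
        · exact w1 h2
        · exact w2 h2
    rw [← relIndex_mul_relIndex N X (V U F) hNX hXV]
    exact Nat.mul_le_mul_right _ h4

theorem pos_relIndex [Finite G] (A B : Subgroup G) : 0 < A.relIndex B :=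
  Nat.pos_of_ne_zero (relIndex_ne _ _)

/-- The chain. -/
theorem chain [Finite G] (h : Two F T 𝓐 U D z E) (B : Subgroup G) (hB : B ≤ o2 F)
    (hq : ∀ x ∈ V U F, ∀ b ∈ B, ∀ b' ∈ B, b' * (x * (b * x * b⁻¹)) = x * (b * x * b⁻¹) * b') :
    (centralizer (V U F : Set G)).relIndex B * (centralizer (V U F : Set G)).relIndex B ≤
      (⁅V U F, o2 F⁆ ⊔ (V U F ⊓ centralizer (B : Set G))).relIndex (V U F) := by
  induction hn : Nat.card B using Nat.strong_induction_on generalizing B with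
  | _ n IH =>
    by_cases h1 : B ≤ centralizer (V U F : Set G)
    · rw [relIndex_eq_one.2 h1]
      exact pos_relIndex _ _
    obtain ⟨B', hlt, h2, h3, h4⟩ := h.step hB hq h1
    have hcard : Nat.card B' < n := by
      rw [← hn]
      refine lt_of_le_of_ne (Subgroup.card_le_of_le hlt.le) fun h5 => ?_
      exact hlt.ne (eq_of_le_of_card_ge hlt.le h5.ge)
    have h5 := IH _ hcard B' (hlt.le.trans hB) (fun x hx b hb b' hb' => hq x hx b (hlt.le hb) b' (hlt.le hb')) rfl
    have h6 : (centralizer (V U F : Set G)).relIndex B ≤ 2 * (centralizer (V U F : Set G)).relIndex B' := by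
      have h7 : (centralizer (V U F : Set G)).relIndex B =
          (centralizer (V U F : Set G)).relIndex B' * B'.relIndex B := by
        rw [← inf_relIndex_right (centralizer (V U F : Set G)) B, ← relIndex_mul_relIndex _ B' B (by
          rw [inf_comm]; exact h2) hlt.le]
        congr 1
        rw [← inf_relIndex_right (centralizer (V U F : Set G)) B']
        rw [← inf_relIndex_right (centralizer (V U F : Set G) ⊓ B) B', inf_assoc, inf_eq_right.2 hlt.le]
      rw [h7, mul_comm]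
      exact Nat.mul_le_mul_right _ h3
    calc _ ≤ (2 * (centralizer (V U F : Set G)).relIndex B') * (2 * (centralizer (V U F : Set G)).relIndex B') :=
          Nat.mul_le_mul h6 h6
      _ = 4 * ((centralizer (V U F : Set G)).relIndex B' * (centralizer (V U F : Set G)).relIndex B') := by ring
      _ ≤ 4 * _ := Nat.mul_le_mul_left _ h5
      _ ≤ _ := h4

/-- A quadratic member outside `O`. -/
theorem exists_quad [Finite G] (h : Two F T 𝓐 U D z E) : ∃ A ∈ 𝓐, ¬ A ≤ o2 F ∧
    ⁅V U F, A⁆ ≤ centralizer (A : Set G) := by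
  classical
  obtain ⟨A₀, hA₀, hA₀'⟩ := h.nJ
  obtain ⟨A, ⟨hA, hAO⟩, hmax⟩ := Set.exists_max_image {A : Subgroup G | A ∈ 𝓐 ∧ ¬ A ≤ o2 F}
    (fun A => Nat.card ↥(V U F ⊓ centralizer (A : Set G))) (Set.toFinite _) ⟨A₀, hA₀, hA₀'⟩
  refine ⟨A, hA, hAO, ?_⟩
  by_contra hcon
  obtain ⟨B', hB', h1, -, h2⟩ := h.fam.exists_rep h.isElab hA (U := V U F) le_rfl
  have h3 : B' ≤ o2 F := by
    by_contra h4
    exact absurd (hmax B' ⟨hB', h4⟩) (not_le.2 (h2 hcon))
  have h4 := h.cenA' hB' h3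
  have h5 : V U F ≤ centralizer (A : Set G) := h.fam.cent h.isElab hA le_rfl fun b hb u hu =>
    (mem_centralizer_iff.1 (h4 (h1 hb)) u hu).symm
  apply hcon
  have h6 : ⁅V U F, A⁆ = ⊥ := by
    rw [commutator_eq_bot_iff_le_centralizer]
    exact h5
  rw [h6]
  exact bot_le

/-- **STEP 2.** -/
theorem false [Finite G] (h : Two F T 𝓐 U D z E) : False := by
  obtain ⟨A, hA, hAO, hquad⟩ := h.exists_quad
  have hno : NoOvM F (V U F) := noOvM h.syl h.par h.comm h.sq
  have hAp := h.fam.two A hA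
  have hAM := h.fam.elem A hA
  have hAF : A ≤ F := h.fam.le A hA
  set Λ := V U F with hΛ
  set a := (o2 F).relIndex A with ha
  set b := (centralizer (Λ : Set G)).relIndex (o2 F ⊓ A : Subgroup G) with hb
  -- upper bound
  have up : (centralizer (A : Set G)).relIndex Λ ≤ b * a := by
    refine (h.fam.off A hA _ le_rfl).trans ?_
    have h1 : (centralizer (Λ : Set G)).relIndex A ≤ (centralizer (Λ : Set G) ⊓ (o2 F ⊓ A)).relIndex A :=
      relIndex_le_of_le_left inf_le_left (relIndex_ne _ _)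
    refine h1.trans ?_
    rw [← relIndex_mul_relIndex _ (o2 F ⊓ A) A inf_le_right inf_le_right, inf_relIndex_right, inf_relIndex_right]
  -- the square
  have lo1 : a * a ≤ (centralizer (A : Set G)).relIndex Λ := h.xd.sq_leM hno h.non hAF hAp hAM
  -- the chain
  have hq : ∀ x ∈ Λ, ∀ b ∈ o2 F ⊓ A, ∀ b' ∈ o2 F ⊓ A, b' * (x * (b * x * b⁻¹)) = x * (b * x * b⁻¹) * b' := by
    intro x hx b hb b' hb'
    have h1 : ⁅x, b⁆ ∈ centralizer (A : Set G) := hquad (commutator_mem_commutator hx hb.2)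
    rw [h.comm_eq hx hb.1] at h1
    exact mem_centralizer_iff.1 h1 b' hb'.2
  have ch := h.chain (o2 F ⊓ A) inf_le_left hq
  set N : Subgroup G := ⁅Λ, o2 F⁆ with hN
  have hNΛ : N ≤ Λ := XD.comm_le_W h.xd
  set C : Subgroup G := centralizer (A : Set G) ⊓ Λ with hC
  have hCΛ : C ≤ Λ := inf_le_right
  have e2 : a ≤ C.relIndex N := by
    have h3 : C.relIndex N = (C ⊓ N).relIndex N := (inf_relIndex_right ..).symm
    rw [h3]
    refine hno ⊥ N (C ⊓ N) A bot_le inf_le_right hNΛ (fun x _ => by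
        rw [mem_normalizer_iff]; intro y; simp [mem_bot]) XD.X_le_normalizer_comm ?_ hAF hAp hAM ?_
    · obtain ⟨c, hc, x, hx, hne⟩ := h.non
      refine ⟨c, hc, x, hx, fun h4 => hne ?_⟩
      rw [mem_bot, mul_inv_eq_one, mul_inv_eq_iff_eq_mul] at h4
      exact h4
    · intro b hb e he
      rw [mem_bot]
      have := mem_centralizer_iff.1 hb.1.1 e he
      rw [← this]; group
  have e3 : C.relIndex Λ = C.relIndex (C ⊔ N) * (C ⊔ N).relIndex Λ :=
    (relIndex_mul_relIndex C (C ⊔ N) Λ le_sup_left (sup_le hCΛ hNΛ)).symm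
  have e4 : C.relIndex N ≤ C.relIndex (C ⊔ N) := relIndex_le_of_le_right le_sup_right (relIndex_ne _ _)
  have e5 : (centralizer (A : Set G)).relIndex Λ = C.relIndex Λ := (inf_relIndex_right ..).symm
  have e6 : (N ⊔ (Λ ⊓ centralizer ((o2 F ⊓ A : Subgroup G) : Set G))).relIndex Λ ≤ (C ⊔ N).relIndex Λ := by
    refine relIndex_le_of_le_left (sup_le ?_ le_sup_left) (relIndex_ne _ _)
    refine le_sup_of_le_right (le_inf hCΛ (inf_le_left.trans (centralizer_le inf_le_right)))
  have lo2 : a * (b * b) ≤ (centralizer (A : Set G)).relIndex Λ := by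
    rw [e5, e3]
    exact Nat.mul_le_mul (e2.trans e4) (ch.trans e6)
  have ap : 0 < a := pos_relIndex _ _
  have bp : 0 < b := pos_relIndex _ _
  have hb1 : b = 1 := by
    by_contra hb1
    have : 2 ≤ b := by omega
    have h1 := lo2.trans up
    have h2 : a * b * 2 ≤ a * b * 1 := by
      calc a * b * 2 ≤ a * b * b := Nat.mul_le_mul_left _ this
        _ = a * (b * b) := by ring
        _ ≤ b * a := h1
        _ = a * b * 1 := by ring
    have h3 := Nat.le_of_mul_le_mul_left h2 (Nat.mul_pos ap bp)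
    omega
  have ha1 : a = 1 := by
    have h1 := lo1.trans up
    rw [hb1, one_mul] at h1
    have h2 : a ≤ 1 := Nat.le_of_mul_le_mul_left (h1.trans (by omega)) ap
    omega
  exact hAO (relIndex_eq_one.1 ha1)

end Two

end Cfsg.Agent.Omega.OM.Swap.Fam
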