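import Cfsg.Agent.Omega.OM.Swap.Gen.Count

/-!
# THEOREM COUNT (helper987, #21705), pure part

* `count_hyp` : `A` permutes the `W p ≤ Λ` without fixed points, quadratically, no `W p` in the product of the others.
  Then there is an `A`-invariant `X` with `|W p : W p ∩ X| ≤ 2` and `|⟨W p⟩ : C(A)| ≥ |A : kernel| |X : C(A)|`;
* `chain` : if `2 |D : C_D(U y)|³ ≤ |U y : C(D)|` for all `D ≤ A₀` moving `U y` and `|U y : U y ∩ X| ≤ 2`, then
  `|D : C_D(⟨U y⟩)|³ ≤ |X : C_X(D)|`.
-/

set_option autoImplicit false
set_option linter.unusedVariables false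
set_option linter.unusedSectionVars false

namespace Cfsg.Agent.Omega.OM.Swap.Fam.CountExt

open Subgroup Cfsg.Agent.ZN Cfsg.Agent.ZN.ChoiceBase Cfsg.Agent.ZN.ChoiceSit Cfsg.Agent.Omega.OM.Swap
  Cfsg.Agent.Omega.OM.Swap.Count
open Cfsg.Agent.Omega.SQ1.Bau (mem_sup_comm)

universe u

/-- a hyperplane of `K` over `N` which does not contain `v` -/
theorem exists_hyp {G : Type u} [Group G] [Finite G] {K N : Subgroup G} (hK : ∀ x ∈ K, ∀ y ∈ K, x * y = y * x)
    (hsq : ∀ x ∈ K, x * x = 1) (hN : N ≤ K) {v : G} (hv : v ∈ K) (hvN : v ∉ N) :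
    ∃ H : Subgroup G, N ≤ H ∧ H ≤ K ∧ v ∉ H ∧ ∀ x ∈ K, x ∈ H ∨ x * v ∈ H := by
  classical
  obtain ⟨H, ⟨hNH, hHK, hvH⟩, hmax⟩ := Set.exists_max_image {H : Subgroup G | N ≤ H ∧ H ≤ K ∧ v ∉ H}
    (fun H => Nat.card H) (Set.toFinite _) ⟨N, le_rfl, hN, hvN⟩
  refine ⟨H, hNH, hHK, hvH, fun x hx => ?_⟩
  by_contra hcon
  push Not at hcon
  obtain ⟨hx1, hx2⟩ := hcon
  set H' : Subgroup G := H ⊔ zpowers x with hH'
  have hzK : zpowers x ≤ K := by rw [zpowers_le]; exact hx
  have hle : H ≤ H' := le_sup_left
  have hv' : v ∉ H' := by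
    intro hv'
    obtain ⟨h, hh, c, hc, e⟩ := mem_sup_comm (A := H) (B := zpowers x)
      (fun a ha b hb => hK a (hHK ha) b (hzK hb)) hv'
    obtain ⟨n, rfl⟩ := mem_zpowers_iff.1 hc
    rcases Int.even_or_odd n with ⟨m, rfl⟩ | ⟨m, rfl⟩
    · apply hvH
      have : x ^ (m + m) = 1 := by
        rw [← two_mul, zpow_mul]
        have : x ^ (2 : ℤ) = 1 := by
          rw [zpow_two]; exact hsq x hx
        rw [this, one_zpow]
      rw [e, this, mul_one]
      exact hh
    · apply hx2
      have h1 : x ^ (2 * m + 1) = x := by
        rw [zpow_add, zpow_mul]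
        have : x ^ (2 : ℤ) = 1 := by
          rw [zpow_two]; exact hsq x hx
        rw [this, one_zpow, one_mul, zpow_one]
      rw [h1] at e
      have h2 : x * v = h := by
        rw [e, hK h (hHK hh) x hx, ← mul_assoc, hsq x hx, one_mul]
      rw [h2]
      exact hh
  have h1 := hmax H' ⟨hNH.trans hle, sup_le hHK hzK, hv'⟩
  have h2 : H = H' := eq_of_le_of_card_ge hle h1
  apply hx1
  rw [h2]
  exact mem_sup_right (mem_zpowers x)

/-- the hyperplane has relative index `≤ 2` -/
theorem relIndex_hyp {G : Type u} [Group G] [Finite G] {K H X : Subgroup G} {v : G} (hXK : X ≤ K)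
    (h : ∀ x ∈ K, x ∈ H ∨ x * v ∈ H) : H.relIndex X ≤ 2 := by
  classical
  by_cases h1 : X ≤ H
  · rw [relIndex_eq_one.2 h1]; norm_num
  · obtain ⟨w, hw, hwH⟩ := SetLike.not_le_iff_exists.1 h1
    have h2 : (H.subgroupOf X).index = 2 := by
      rw [Subgroup.index_eq_two_iff]
      refine ⟨⟨w, hw⟩, fun x => ?_⟩
      rw [mem_subgroupOf, mem_subgroupOf]
      have hwv : w * v ∈ H := (h w (hXK hw)).resolve_left hwH
      change Xor ((x : G) * w ∈ H) ((x : G) ∈ H)
      by_cases hx : (x : G) ∈ H
      · exact Or.inr ⟨hx, fun h3 => hwH (by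
          have := mul_mem (inv_mem hx) h3
          rwa [inv_mul_cancel_left] at this)⟩
      · refine Or.inl ⟨?_, hx⟩
        rcases h _ (mul_mem (hXK x.2) (hXK hw)) with h3 | h3
        · exact h3
        · exfalso
          apply hx
          have := mul_mem h3 (inv_mem hwv)
          have e : (x : G) * w * v * (w * v)⁻¹ = x := by group
          rwa [e] at this
    exact h2.le

variable {G : Type u} [Group G] [Finite G] {A Λ : Subgroup G} {P : Type*} [MulAction A P] {W : P → Subgroup G}

/-- `K p`, the product of the other `W p'` -/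
def Kp (W : P → Subgroup G) (p : P) : Subgroup G := ⨆ p', ⨆ _ : p' ≠ p, W p'

theorem le_Kp {p p' : P} (h : p' ≠ p) : W p' ≤ Kp W p := W_le_of_ne h

theorem cj_Kp (hWa : ∀ (a : A) (p : P), cj (a : G) (W p) = W (a • p)) (a : A) (p : P) :
    cj (a : G) (Kp W p) ≤ Kp W (a • p) := by
  rw [Kp, cj, Subgroup.map_iSup]
  refine iSup_le fun p' => ?_
  rw [Subgroup.map_iSup]
  refine iSup_le fun hp' => ?_
  change cj (a : G) (W p') ≤ _
  rw [hWa]
  exact le_Kp fun e => hp' (MulAction.injective a e)

theorem count_hyp [Finite P] (hΛ : ∀ x ∈ Λ, ∀ y ∈ Λ, x * y = y * x) (hsq : ∀ x ∈ Λ, x * x = 1)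
    (hW : ∀ p, W p ≤ Λ) (hWa : ∀ (a : A) (p : P), cj (a : G) (W p) = W (a • p))
    (hq : ∀ p, ∀ x ∈ W p, ∀ a ∈ A, ∀ b ∈ A, b * (x * (a * x * a⁻¹)) = x * (a * x * a⁻¹) * b)
    (hind : ∀ p, ¬ W p ≤ ⨆ p', ⨆ _ : p' ≠ p, W p')
    (hmv : ∀ p : P, ∃ a : A, a • p ≠ p) :
    ∃ X : Subgroup G, X ≤ (⨆ p, W p) ∧ (∀ p, X.relIndex (W p) ≤ 2) ∧
      ∀ A₀ : Subgroup G, (∀ a : A, (∀ p : P, a • p = p) → (a : G) ∈ A₀) →
        A₀.relIndex A * (centralizer (A : Set G)).relIndex X ≤ (centralizer (A : Set G)).relIndex (⨆ p, W p) := by
  classical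
  have : Fintype P := Fintype.ofFinite P
  set C := centralizer (A : Set G) with hC
  set K' : Subgroup G := ⨆ p, W p with hK'
  have hKΛ : K' ≤ Λ := iSup_le hW
  have hri : ∀ X Y : Subgroup G, X.relIndex Y ≠ 0 := fun X Y => Subgroup.index_ne_zero_of_finite
  have hst := index_stab hWa hq hind hmv
  have hstn : ∀ p : P, (MulAction.stabilizer A p).Normal := fun p => Subgroup.normal_of_index_eq_two (hst p)
  have key : ∀ s : Finset P, ∃ X : Subgroup G, X ≤ K' ∧ (∀ a : A, cj (a : G) X = X) ∧
      (∀ p, (∀ p' ∈ s, ∀ a : A, a • p' ≠ p) → W p ≤ X) ∧ (∀ p ∈ s, X.relIndex (W p) ≤ 2) ∧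
      (⨅ p ∈ s, MulAction.stabilizer A p : Subgroup A).index * C.relIndex X ≤ C.relIndex K' := by
    intro s
    induction s using Finset.induction_on with
    | empty =>
      refine ⟨K', le_rfl, fun a => ?_, fun p _ => le_iSup W p, by simp, by simp⟩
      rw [hK', cj, Subgroup.map_iSup]
      apply le_antisymm
      · refine iSup_le fun p => ?_
        change cj (a : G) (W p) ≤ _
        rw [hWa]
        exact le_iSup W _
      · refine iSup_le fun p => ?_
        have h1 := hWa a (a⁻¹ • p)
        rw [smul_inv_smul] at h1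
        rw [← h1]
        exact le_iSup (fun p => Subgroup.map _ (W p)) (a⁻¹ • p)
    | insert p s hp ih =>
      obtain ⟨X, hXK, hXa, hX2, hX3, hX1⟩ := ih
      set L : Subgroup A := ⨅ p ∈ s, MulAction.stabilizer A p with hL
      have e : (⨅ p' ∈ insert p s, MulAction.stabilizer A p' : Subgroup A) = MulAction.stabilizer A p ⊓ L := by
        rw [Finset.iInf_insert]
      by_cases horb : ∃ p' ∈ s, ∃ a : A, a • p' = p
      · obtain ⟨p₁, hp₁, a, rfl⟩ := horb
        refine ⟨X, hXK, hXa, fun p'' h1 => hX2 p'' fun p' hp' b => h1 p' (Finset.mem_insert_of_mem hp') b, ?_, ?_⟩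
        · intro p'' hp''
          rcases Finset.mem_insert.1 hp'' with rfl | h1
          · have h2 := hX3 p₁ hp₁
            have h3 : X.relIndex (W (a • p₁)) = X.relIndex (W p₁) := by
              conv_lhs => rw [← hWa, ← hXa a]
              exact Subgroup.relIndex_map_map_of_injective _ _ (MulAut.conj (a : G)).injective
            rw [h3]
            exact h2
          · exact hX3 p'' h1
        · rw [e]
          have h1 : L ≤ MulAction.stabilizer A (a • p₁) := by
            have h2 : L ≤ MulAction.stabilizer A p₁ := iInf₂_le p₁ hp₁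
            refine h2.trans fun b hb => ?_
            have h3 := (hstn p₁).conj_mem b hb a⁻¹
            rw [inv_inv] at h3
            rw [MulAction.mem_stabilizer_iff] at h3 ⊢
            rw [mul_smul, mul_smul, inv_smul_eq_iff] at h3
            exact h3
          rw [inf_eq_right.2 h1]
          exact hX1
      · push Not at horb
        obtain ⟨a, ha⟩ := hmv p
        obtain ⟨v, hv, hvn⟩ := SetLike.not_le_iff_exists.1 (hind p)
        have hvK : v ∈ K' := le_iSup W p hv
        have hKpK : Kp W p ≤ K' := iSup_le fun p' => iSup_le fun _ => le_iSup W p'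
        obtain ⟨H, hKH, hHK, hvH, hH2⟩ := exists_hyp (fun x hx y hy => hΛ x (hKΛ hx) y (hKΛ hy))
          (fun x hx => hsq x (hKΛ hx)) hKpK hvK hvn
        have hK'a : ∀ b : A, ∀ x ∈ K', (b : G) * x * (b : G)⁻¹ ∈ K' := by
          intro b x hx
          have h1 : cj (b : G) K' ≤ K' := by
            rw [hK', cj, Subgroup.map_iSup]
            refine iSup_le fun p => ?_
            change cj (b : G) (W p) ≤ _
            rw [hWa]
            exact le_iSup W _
          exact h1 ⟨x, hx, rfl⟩
        -- the stabiliser of `p` normalises `H`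
        have hstH : ∀ b : A, b • p = p → cj (b : G) H ≤ H := by
          intro b hb
          rintro _ ⟨x, hx, rfl⟩
          change (b : G) * x * (b : G)⁻¹ ∈ H
          have h1 : K' ≤ W p ⊔ Kp W p := by
            refine iSup_le fun p' => ?_
            by_cases h2 : p' = p
            · rw [h2]; exact le_sup_left
            · exact (le_Kp h2).trans le_sup_right
          obtain ⟨w, hw, c, hc, e1⟩ := mem_sup_comm (A := W p) (B := Kp W p)
            (fun a ha b hb => hΛ a (hW p ha) b (hKΛ (hKpK hb))) (h1 (hHK hx))
          have hbw := mem_W hWa b hw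
          rw [hb] at hbw
          -- `[w, b] ∈ Kp`
          have h2 : w * ((b : G) * w * (b : G)⁻¹) ∈ Kp W p := by
            have h3 : w * ((b : G) * w * (b : G)⁻¹) ∈ W p := mul_mem hw hbw
            have h4 := hq p w hw b b.2 a a.2
            have h5 : (a : G) * (w * ((b : G) * w * (b : G)⁻¹)) * (a : G)⁻¹ = w * ((b : G) * w * (b : G)⁻¹) := by
              rw [h4]; group
            rw [← h5]
            exact le_Kp ha (mem_W hWa a h3)
          have h6 : (b : G) * c * (b : G)⁻¹ ∈ Kp W p := by
            have := cj_Kp hWa b p ⟨c, hc, rfl⟩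
            rwa [hb] at this
          have h7 : (b : G) * x * (b : G)⁻¹ =
              x * (w * ((b : G) * w * (b : G)⁻¹)) * (c⁻¹ * ((b : G) * c * (b : G)⁻¹)) := by
            have hxΛ := hKΛ (hHK hx)
            have hwΛ := hW p hw
            have hcΛ := hKΛ (hKpK hc)
            have hbwΛ := hW p hbw
            have hww := hsq w hwΛ
            rw [e1]
            have c1 := hΛ w hwΛ c hcΛ
            have c2 := hΛ _ hbwΛ c hcΛ
            calc (b : G) * (w * c) * (b : G)⁻¹ = ((b : G) * w * (b : G)⁻¹) * ((b : G) * c * (b : G)⁻¹) := by group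
              _ = (w * w) * ((b : G) * w * (b : G)⁻¹) * ((b : G) * c * (b : G)⁻¹) := by rw [hww, one_mul]
              _ = w * (w * ((b : G) * w * (b : G)⁻¹)) * (c * c⁻¹) * ((b : G) * c * (b : G)⁻¹) := by
                  rw [mul_inv_cancel]; group
              _ = w * (w * ((b : G) * w * (b : G)⁻¹) * c) * (c⁻¹ * ((b : G) * c * (b : G)⁻¹)) := by group
              _ = w * (c * (w * ((b : G) * w * (b : G)⁻¹))) * (c⁻¹ * ((b : G) * c * (b : G)⁻¹)) := by
                  have : w * ((b : G) * w * (b : G)⁻¹) * c = c * (w * ((b : G) * w * (b : G)⁻¹)) :=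
                    hΛ _ (mul_mem hwΛ hbwΛ) c hcΛ
                  rw [this]
              _ = _ := by group
          rw [h7]
          exact mul_mem (mul_mem hx (hKH h2)) (hKH (mul_mem (inv_mem hc) h6))
        have hstH' : ∀ b : A, b • p = p → cj (b : G) H = H := fun b hb =>
          eq_of_le_of_card_ge (hstH b hb) (by rw [card_cj])
        have hstab : ∀ b : A, b • p ≠ p → (a⁻¹ * b) • p = p ∧ (b * a) • p = p := by
          intro b hb
          have h1 : ∀ x : A, x ∈ MulAction.stabilizer A p ↔ x • p = p := fun x => MulAction.mem_stabilizer_iff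
          have h2 : ∀ x y : A, (x * y ∈ MulAction.stabilizer A p) ↔
              (x ∈ MulAction.stabilizer A p ↔ y ∈ MulAction.stabilizer A p) := fun x y =>
            Subgroup.mul_mem_iff_of_index_two (hst p)
          constructor
          · rw [← h1, h2, h1, h1]
            constructor
            · intro h3
              exact absurd (by
                rw [inv_smul_eq_iff] at h3
                exact h3.symm) ha
            · intro h3; exact absurd h3 hb
          · rw [← h1, h2, h1, h1]
            exact ⟨fun h3 => absurd h3 hb, fun h3 => absurd h3 ha⟩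
        set H' : Subgroup G := cj (a : G) H with hH'
        have hbH : ∀ b : A, cj (b : G) (H ⊓ H') = H ⊓ H' := by
          intro b
          rw [cj_inf]
          by_cases hb : b • p = p
          · have h1 : cj (b : G) H' = H' := by
              have h2 : (a⁻¹ * b * a) • p = p := by
                have h3 := (hstn p).conj_mem b (MulAction.mem_stabilizer_iff.2 hb) a⁻¹
                rw [inv_inv] at h3
                exact MulAction.mem_stabilizer_iff.1 h3
              have h3 := hstH' _ h2
              rw [hH', cj_cj]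
              have e2 : (b : G) * a = a * ((a⁻¹ * b * a : A) : G) := by
                push_cast; group
              rw [e2, ← cj_cj, h3]
            rw [h1, hstH' b hb]
          · obtain ⟨h1, h2⟩ := hstab b hb
            have h3 : cj (b : G) H = H' := by
              have e2 : (b : G) = a * ((a⁻¹ * b : A) : G) := by push_cast; group
              rw [e2, ← cj_cj, hstH' _ h1]
            have h4 : cj (b : G) H' = H := by
              rw [hH', cj_cj]
              have e2 : (b : G) * a = ((b * a : A) : G) := by push_cast; rfl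
              rw [e2, hstH' _ h2]
            rw [h3, h4, inf_comm]
        have hH'K : H' ≤ K' := by
          rintro _ ⟨x, hx, rfl⟩
          exact hK'a a x (hHK hx)
        have hKpH' : Kp W (a • p) ≤ H' := by
          have h1 := cj_Kp hWa a⁻¹ (a • p)
          rw [inv_smul_smul] at h1
          have h2 := cj_mono (a : G) (h1.trans hKH)
          have e2 : ((a⁻¹ : A) : G) = (a : G)⁻¹ := rfl
          rwa [e2, cj_cj_inv] at h2
        have hWpX : W p ≤ X := hX2 p fun p' hp' b => horb p' hp' b
        have hWpH' : W p ≤ H' := (le_Kp ha.symm).trans hKpH'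
        have hWH : ∀ p', p' ≠ p → W p' ≤ H := fun p' h1 => (le_Kp h1).trans hKH
        have hWH' : ∀ p', p' ≠ a • p → W p' ≤ H' := fun p' h1 => (le_Kp h1).trans hKpH'
        refine ⟨X ⊓ (H ⊓ H'), inf_le_left.trans hXK, fun b => by rw [cj_inf, hXa, hbH], ?_, ?_, ?_⟩
        · intro p'' h1
          refine le_inf (hX2 p'' fun p' hp' b => h1 p' (Finset.mem_insert_of_mem hp') b) (le_inf (hWH _ ?_) (hWH' _ ?_))
          · rintro rfl
            exact h1 p'' (Finset.mem_insert_self _ _) 1 (one_smul _ _)
          · rintro rfl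
            exact h1 p (Finset.mem_insert_self _ _) a rfl
        · intro p'' hp''
          rcases Finset.mem_insert.1 hp'' with rfl | h1
          · have h2 : (X ⊓ (H ⊓ H')).relIndex (W p'') = H.relIndex (W p'') := by
              rw [← inf_relIndex_right, ← inf_relIndex_right H]
              congr 1
              apply le_antisymm
              · exact le_inf (inf_le_left.trans (inf_le_right.trans inf_le_left)) inf_le_right
              · exact le_inf (le_inf (inf_le_right.trans hWpX) (le_inf inf_le_left (inf_le_right.trans hWpH')))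
                  inf_le_right
            rw [h2]
            exact relIndex_hyp (le_iSup W _) hH2
          · have hne1 : p'' ≠ p := fun e2 => hp (e2 ▸ h1)
            have hne2 : p'' ≠ a • p := fun e2 => horb p'' h1 a⁻¹ (by rw [e2, inv_smul_smul])
            have h2 : (X ⊓ (H ⊓ H')).relIndex (W p'') = X.relIndex (W p'') := by
              rw [← inf_relIndex_right, ← inf_relIndex_right X]
              congr 1
              apply le_antisymm
              · exact le_inf (inf_le_left.trans inf_le_left) inf_le_right
              · exact le_inf (le_inf inf_le_left (le_inf (inf_le_right.trans (hWH _ hne1))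
                  (inf_le_right.trans (hWH' _ hne2)))) inf_le_right
            rw [h2]
            exact hX3 p'' h1
        · rw [e]
          set X' : Subgroup G := X ⊓ (H ⊓ H') with hX'
          have h1 : (MulAction.stabilizer A p ⊓ L).index ≤ 2 * L.index := by
            have := Subgroup.index_inf_le (H := MulAction.stabilizer A p) (K := L)
            rwa [hst p] at this
          have h2 : 2 * C.relIndex X' ≤ C.relIndex X := by
            set Y : Subgroup G := X' ⊔ (C ⊓ X) with hY
            have hX'X : X' ≤ X := inf_le_left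
            have hYX : Y ≤ X := sup_le hX'X inf_le_right
            have hvY : v ∉ Y := by
              intro hvY
              obtain ⟨x, hx, c, hc, e1⟩ := mem_sup_comm (A := X') (B := C ⊓ X)
                (fun a ha b hb => hΛ a (hKΛ (hXK (hX'X ha))) b (hKΛ (hXK hb.2))) hvY
              have hcH : c ∉ H := by
                intro hcH
                apply hvH
                rw [e1]
                exact mul_mem hx.2.1 hcH
              have hcH' : c ∉ H' := by
                intro h3
                apply hcH
                obtain ⟨y, hy, e2⟩ := h3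
                have h4 := mem_centralizer_iff.1 hc.1 (a : G) a.2
                change (a : G) * y * (a : G)⁻¹ = c at e2
                have h5 : y = c := by
                  have h6 : y = (a : G)⁻¹ * c * (a : G) := by rw [← e2]; group
                  rw [h6, mul_assoc, ← h4]; group
                rw [← h5]
                exact hy
              apply hcH'
              have hxH' : x ∈ H' := hx.2.2
              have h5 := mul_mem (inv_mem hxH') (hWpH' hv)
              rw [e1, inv_mul_cancel_left] at h5
              exact h5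
            have h4 : 2 ≤ Y.relIndex X := by
              have h5 : Y.relIndex X ≠ 1 := by
                intro h5
                exact hvY (Subgroup.relIndex_eq_one.1 h5 (hWpX hv))
              have h6 := hri Y X
              omega
            have h5 : C.relIndex X = (C ⊓ X).relIndex Y * Y.relIndex X := by
              rw [Subgroup.relIndex_mul_relIndex _ _ _ le_sup_right hYX, Subgroup.inf_relIndex_right]
            have h6 : C.relIndex X' ≤ (C ⊓ X).relIndex Y := by
              have h7 : (C ⊓ X).relIndex X' = C.relIndex X' := by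
                rw [← Subgroup.inf_relIndex_right (C ⊓ X), inf_assoc, inf_eq_right.2 hX'X,
                  Subgroup.inf_relIndex_right]
              rw [← h7]
              exact Subgroup.relIndex_le_of_le_right le_sup_left (hri _ _)
            rw [h5, mul_comm]
            exact Nat.mul_le_mul h6 h4
          calc (MulAction.stabilizer A p ⊓ L).index * C.relIndex X' ≤ 2 * L.index * C.relIndex X' :=
                Nat.mul_le_mul_right _ h1
            _ = L.index * (2 * C.relIndex X') := by ring
            _ ≤ L.index * C.relIndex X := Nat.mul_le_mul_left _ h2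
            _ ≤ _ := hX1
  obtain ⟨X, hXK, -, -, hX3, hX1⟩ := key Finset.univ
  refine ⟨X, hXK, fun p => hX3 p (Finset.mem_univ p), fun A₀ h0 => ?_⟩
  have h3 : A₀.relIndex A ≤ (⨅ p ∈ (Finset.univ : Finset P), MulAction.stabilizer A p : Subgroup A).index := by
    refine Nat.le_of_dvd (Nat.pos_of_ne_zero Subgroup.index_ne_zero_of_finite) (Subgroup.index_dvd_of_le ?_)
    intro a ha
    rw [mem_subgroupOf]
    refine h0 a fun p => ?_
    have h4 := Subgroup.mem_iInf.1 (Subgroup.mem_iInf.1 ha p) (Finset.mem_univ p)
    exact MulAction.mem_stabilizer_iff.1 h4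
  exact (Nat.mul_le_mul_right _ h3).trans hX1

omit [Finite G] in
theorem relIndex_split [Finite G] {X Y D : Subgroup G} (h : X ⊓ D ≤ Y) :
    X.relIndex D = X.relIndex (Y ⊓ D) * Y.relIndex D := by
  have h1 : X.relIndex D = (X ⊓ D).relIndex D := (inf_relIndex_right X D).symm
  have h2 : Y.relIndex D = (Y ⊓ D).relIndex D := (inf_relIndex_right Y D).symm
  have h3 : X.relIndex (Y ⊓ D) = (X ⊓ D).relIndex (Y ⊓ D) := by
    rw [← inf_relIndex_right X (Y ⊓ D), ← inf_relIndex_right (X ⊓ D) (Y ⊓ D)]
    congr 1
    apply le_antisymm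
    · exact le_inf (le_inf inf_le_left (inf_le_right.trans inf_le_right)) inf_le_right
    · exact le_inf (inf_le_left.trans inf_le_left) inf_le_right
  rw [h1, h2, h3, relIndex_mul_relIndex _ _ _ (le_inf h inf_le_right) inf_le_right]

/-- The chain: cubes. -/
theorem chain {κ : Sort*} {U : κ → Subgroup G} {X A₀ : Subgroup G}
    (h5 : ∀ D ≤ A₀, ∀ y, D ≤ centralizer (U y : Set G) ∨
      2 * ((centralizer (U y : Set G)).relIndex D) ^ 3 ≤ (centralizer (D : Set G)).relIndex (U y))
    (hX : ∀ y, X.relIndex (U y) ≤ 2) :
    ∀ n : ℕ, ∀ D ≤ A₀, Nat.card D ≤ n →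
      ((centralizer ((⨆ y, U y : Subgroup G) : Set G)).relIndex D) ^ 3 ≤ (centralizer (D : Set G)).relIndex X := by
  have hri : ∀ X Y : Subgroup G, X.relIndex Y ≠ 0 := fun X Y => Subgroup.index_ne_zero_of_finite
  intro n
  induction n with
  | zero =>
    intro D _ hn
    exact absurd hn (by have := Nat.card_pos (α := D); omega)
  | succ n ih =>
    intro D hD hn
    by_cases h1 : ∀ y, D ≤ centralizer (U y : Set G)
    · have h2 : D ≤ centralizer ((⨆ y, U y : Subgroup G) : Set G) := by
        rw [le_centralizer_iff]
        exact iSup_le fun y => le_centralizer_iff.1 (h1 y)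
      rw [relIndex_eq_one.2 h2]
      have := hri (centralizer (D : Set G)) X
      omega
    · push Not at h1
      obtain ⟨y, hy⟩ := h1
      have h2 := (h5 D hD y).resolve_left hy
      set C₁ := centralizer (U y : Set G) with hC₁
      set D₁ := C₁ ⊓ D with hD₁
      have hlt : Nat.card D₁ < Nat.card D := by
        have hle : D₁ ≤ D := inf_le_right
        refine lt_of_le_of_ne (card_le_of_le hle) fun e => hy ?_
        have := eq_of_le_of_card_ge hle e.ge
        rw [← this]
        exact inf_le_left
      have h3 := ih D₁ (inf_le_right.trans hD) (by omega)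
      have hCU : centralizer ((⨆ y, U y : Subgroup G) : Set G) ≤ C₁ :=
        centralizer_le (by exact_mod_cast le_iSup U y)
      have h4 := relIndex_split (X := centralizer ((⨆ y, U y : Subgroup G) : Set G)) (Y := C₁) (D := D)
        (inf_le_left.trans hCU)
      -- on the `X`-side
      set CD := centralizer (D : Set G) with hCD
      set CD₁ := centralizer (D₁ : Set G) with hCD₁
      have hle : CD ≤ CD₁ := centralizer_le (by exact_mod_cast (inf_le_right : D₁ ≤ D))
      have h6 := relIndex_split (X := CD) (Y := CD₁) (D := X) (inf_le_left.trans hle)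
      have hUy : U y ≤ CD₁ := by
        rw [hCD₁, ← le_centralizer_iff]
        exact inf_le_left
      -- `|C_X(D₁) : C(D)| ≥ |U y ∩ X : C(D)| ≥ |U y : C(D)| / 2`
      have h7 : CD.relIndex (U y) ≤ CD.relIndex (X ⊓ U y) * 2 := by
        have h8 : CD.relIndex (U y) ≤ (CD ⊓ X).relIndex (U y) := relIndex_le_of_le_left inf_le_left (hri _ _)
        have h9 := relIndex_split (X := CD ⊓ X) (Y := X) (D := U y) (inf_le_left.trans inf_le_right)
        have h10 : (CD ⊓ X).relIndex (X ⊓ U y) = CD.relIndex (X ⊓ U y) := by
          rw [← inf_relIndex_right (CD ⊓ X), ← inf_relIndex_right CD]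
          congr 1
          apply le_antisymm
          · exact le_inf (inf_le_left.trans inf_le_left) inf_le_right
          · exact le_inf (le_inf inf_le_left (inf_le_right.trans inf_le_left)) inf_le_right
        rw [h9, h10] at h8
        exact h8.trans (Nat.mul_le_mul_left _ (hX y))
      have h8 : CD.relIndex (X ⊓ U y) ≤ CD.relIndex (CD₁ ⊓ X) :=
        relIndex_le_of_le_right (le_inf (inf_le_right.trans hUy) inf_le_left) (hri _ _)
      have h9 : (C₁.relIndex D) ^ 3 ≤ CD.relIndex (CD₁ ⊓ X) := by omega
      rw [h4, h6, mul_pow, mul_comm]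
      exact Nat.mul_le_mul h9 h3

end Cfsg.Agent.Omega.OM.Swap.Fam.CountExt
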