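import Cfsg.Agent.Omega.OM.Swap.Fam.One
import Cfsg.Agent.Omega.OM.Swap.Fam.CountExt

/-!
# THEOREM COUNT (helper987, #21705): STEP 1 is contradictory if every quadratic action is expensive

`One F T F₀ 𝓐 U l Z` (helper394, helper87), `bad : G → Prop`: (N) `C_F(x) ≤ F₀` for the bad `x ∈ U`; (H5) a group `E ≤ T` which
acts on `U` quadratically, as an elementary abelian group, without bad elements in `[U, E]`, centralises `U` or
`|U : C_U(E)| ≥ 2 |E : C_E(U)|³`.  Then `False`.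

* `GPan.points` : the points of a panel, packaged for `count_hyp`;
* `One.false_of_count`.
-/

set_option autoImplicit false
set_option linter.unusedSectionVars false
set_option linter.unusedVariables false

namespace Cfsg.Agent.Omega.OM.Swap.Fam

open Subgroup Cfsg Cfsg.Agent.ZN Cfsg.Agent.ZN.ChoiceBase Cfsg.Agent.ZN.ChoiceSit
  Cfsg.Agent.MinSimple.VModule Cfsg.Agent.Omega.OmThm
open Cfsg.Agent.Omega.OM.Swap hiding Two One Mx
open Cfsg.Agent.MinSimple.MinParabolic (IsMinPar)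
open Cfsg.Agent.Omega.FFThm (ElemM)
open Cfsg.Agent.Omega.OM.Swap.Fam.CountExt (count_hyp chain relIndex_split)
open scoped Pointwise commutatorElement

universe u

variable {G : Type u} [Group G] {ι : Type*} {F T F₀ U : Subgroup G} {𝓐 : Set (Subgroup G)} {l Z : ι → Subgroup G}

theorem rel_cj (g : G) (H K : Subgroup G) : (cj g H).relIndex (cj g K) = H.relIndex K :=
  Subgroup.relIndex_map_map_of_injective _ _ (MulAut.conj g).injective

/-- the expensive actions -/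
def Cost (T U : Subgroup G) (bad : G → Prop) : Prop :=
  ∀ E ≤ T, (∀ a ∈ E, ∀ u ∈ U, a * (a * u * a⁻¹) * a⁻¹ = u) →
    (∀ a ∈ E, ∀ b ∈ E, ∀ u ∈ U, a * (b * u * b⁻¹) * a⁻¹ = b * (a * u * a⁻¹) * b⁻¹) →
    (∀ a ∈ E, ∀ b ∈ E, ∀ u ∈ U, b * (u * (a * u * a⁻¹)) = u * (a * u * a⁻¹) * b) →
    (∀ w ∈ closure {y | ∃ x ∈ U, ∃ a ∈ E, y = x * (a * x * a⁻¹)}, ¬ bad w) →
    E ≤ centralizer (U : Set G) ∨
      2 * ((centralizer (U : Set G)).relIndex E) ^ 3 ≤ (centralizer (E : Set G)).relIndex U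

namespace GPan

local notation "Λ" => NoFF.Basic.V U F

variable {R A Y Rs : Subgroup G} {g : G} (p : GPan F T F₀ 𝓐 U R A Y Rs g)
include p

/-- The points of a panel: if `U^g ≰ K'`, then `|K' : C(A)| ≥ |A : A ∩ O₂(Y)| |X : C(A)|` for some `X ≤ K'` with
`|U^{yg} : U^{yg} ∩ X| ≤ 2`. -/
theorem points [Finite G] (h : One F T F₀ 𝓐 U l Z) (hno : ¬ cj g U ≤ KK U F₀ Y g) :
    ∃ X : Subgroup G, (∀ y : {y : G // y ∈ Y ∧ y ∉ cj g F₀}, X.relIndex (cj ((y : G) * g) U) ≤ 2) ∧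
      (A ⊓ o2 Y).relIndex A * (centralizer (A : Set G)).relIndex X ≤
        (centralizer (A : Set G)).relIndex (KK U F₀ Y g) := by
  classical
  have hAg : A ≤ cj g F₀ := p.ARs.trans (p.RsF₀ h)
  let P : Type u := {K : Subgroup G // ∃ y ∈ Y, y ∉ cj g F₀ ∧ K = cj (y * g) F₀}
  have hmemA : ∀ (a : A) (K : P), ∃ y ∈ Y, y ∉ cj g F₀ ∧ cj (a : G) K.1 = cj (y * g) F₀ := by
    rintro a ⟨K, y, hy, hyn, rfl⟩
    refine ⟨a * y, mul_mem (p.AY a.2) hy, fun h1 => hyn ?_, by rw [cj_cj, mul_assoc]⟩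
    have := mul_mem (inv_mem (hAg a.2)) h1
    rwa [inv_mul_cancel_left] at this
  let act : MulAction A P :=
    { smul := fun a K => ⟨cj (a : G) K.1, hmemA a K⟩
      one_smul := fun K => Subtype.ext (cj_one K.1)
      mul_smul := fun a b K => Subtype.ext (cj_cj (a : G) (b : G) K.1).symm }
  have hsm : ∀ (a : A) (K : P), (a • K).1 = cj (a : G) K.1 := fun a K => rfl
  let W : P → Subgroup G := fun K => ⨆ y : {y : G // y ∈ Y ∧ cj (y * g) F₀ = K.1}, cj ((y : G) * g) U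
  have hWdef : ∀ K : P, W K = ⨆ y : {y : G // y ∈ Y ∧ cj (y * g) F₀ = K.1}, cj ((y : G) * g) U := fun _ => rfl
  have leW : ∀ (K : P) (y : G), y ∈ Y → cj (y * g) F₀ = K.1 → cj (y * g) U ≤ W K := fun K y hy hK =>
    le_iSup (fun y : {y : G // y ∈ Y ∧ cj (y * g) F₀ = K.1} => cj ((y : G) * g) U) ⟨y, hy, hK⟩
  have hrep : ∀ (K : P) (y : G), y ∈ Y → cj (y * g) F₀ = K.1 → y ∉ cj g F₀ := by
    rintro ⟨K, y₀, hy₀, hyn₀, rfl⟩ y hy hK hyg
    apply hyn₀
    have h1 : cj y (cj g F₀) = cj g F₀ := cj_self hyg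
    have h2 : cj y (cj g F₀) = cj y₀ (cj g F₀) := by
      rw [cj_cj, cj_cj]
      exact hK
    exact h.mem_of_cj_eq (p.YF hy₀) p.gF (h2.symm.trans h1)
  have hKK : (⨆ K, W K) = KK U F₀ Y g := by
    apply le_antisymm
    · refine iSup_le fun K => iSup_le fun y => ?_
      exact le_KK y.2.1 (hrep K y y.2.1 y.2.2)
    · refine iSup_le fun y => ?_
      exact (leW ⟨cj ((y : G) * g) F₀, y, y.2.1, y.2.2, rfl⟩ y y.2.1 rfl).trans (le_iSup W _)
  have hWa' : ∀ (a : A) (K : P), cj (a : G) (W K) ≤ W (a • K) := by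
    intro a K
    rw [hWdef K, cj_iSup]
    refine iSup_le fun y => ?_
    rw [cj_cj, ← mul_assoc]
    refine leW (a • K) ((a : G) * y) (mul_mem (p.AY a.2) y.2.1) ?_
    have h1 := y.2.2
    rw [hsm, mul_assoc, ← cj_cj, h1]
  have hWa : ∀ (a : A) (K : P), cj (a : G) (W K) = W (a • K) := by
    intro a K
    refine le_antisymm (hWa' a K) ?_
    have h1 := cj_mono (a : G) (hWa' a⁻¹ (a • K))
    rw [inv_smul_smul] at h1
    have h2 : ((a⁻¹ : A) : G) = (a : G)⁻¹ := rfl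
    rwa [h2, cj_cj_inv] at h1
  have hfin : Finite P := Subtype.finite
  have hWL : ∀ K, W K ≤ Λ := fun K => iSup_le fun y => One.cjU_le_Lam (p.yF y.2.1)
  have hq : ∀ K, ∀ x ∈ W K, ∀ a ∈ A, ∀ b ∈ A, b * (x * (a * x * a⁻¹)) = x * (a * x * a⁻¹) * b :=
    fun K x hx a ha b hb => p.quad_sup h ha
      (W := fun y : {y : G // y ∈ Y ∧ cj (y * g) F₀ = K.1} => cj ((y : G) * g) U)
      (fun y => One.cjU_le_Lam (p.yF y.2.1))
      (fun y x hx => p.quad' h y.2.1 (hrep K y y.2.1 y.2.2) hx ha hb) hx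
  have hind : ∀ K, ¬ W K ≤ ⨆ K', ⨆ _ : K' ≠ K, W K' := by
    intro K hle
    obtain ⟨y, hy, hyn, hK⟩ := K.2
    apply hno
    have h1 := cj_mono y⁻¹ ((leW K y hy hK.symm).trans hle)
    rw [← cj_cj, cj_inv_cj] at h1
    refine h1.trans ?_
    rw [cj_iSup]
    refine iSup_le fun K' => ?_
    rw [cj_iSup]
    refine iSup_le fun hK' => ?_
    rw [hWdef, cj_iSup]
    refine iSup_le fun y' => ?_
    rw [cj_cj, ← mul_assoc]
    refine le_KK (mul_mem (inv_mem hy) y'.2.1) fun h2 => hK' (Subtype.ext ?_)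
    rw [← y'.2.2, hK]
    have e : (y' : G) * g = y * ((y⁻¹ * y') * g) := by group
    rw [e, ← cj_cj y, ← cj_cj (y⁻¹ * y') g, cj_self h2, cj_cj]
  have hmv : ∀ K : P, ∃ a : A, a • K ≠ K := by
    intro K
    obtain ⟨y, hy, hyn, hK⟩ := K.2
    obtain ⟨a, ha, han⟩ := SetLike.not_le_iff_exists.1 (p.not_fix h hy hyn)
    refine ⟨⟨a, ha⟩, fun h1 => han ?_⟩
    have h2 := congrArg Subtype.val h1
    rw [hsm, hK] at h2
    exact h.mem_of_cj_eq (h.fam.le A p.hA ha) (p.yF hy) h2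
  have h0 : ∀ a : A, (∀ K : P, a • K = K) → (a : G) ∈ A ⊓ o2 Y := by
    intro a ha
    refine ⟨a.2, p.ker h a.2 fun y hy => ?_⟩
    by_cases hyn : y ∈ cj g F₀
    · rw [← cj_cj, cj_self hyn]
      exact hAg a.2
    · have h1 := congrArg Subtype.val (ha ⟨cj (y * g) F₀, y, hy, hyn, rfl⟩)
      rw [hsm] at h1
      exact h.mem_of_cj_eq (h.fam.le A p.hA a.2) (p.yF hy) h1
  obtain ⟨X, hXK, hX2, hX1⟩ := count_hyp h.comm h.sq hWL hWa hq hind hmv
  refine ⟨X, fun y => ?_, ?_⟩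
  · have h1 := hX2 ⟨cj ((y : G) * g) F₀, y, y.2.1, y.2.2, rfl⟩
    exact (relIndex_le_of_le_right (leW ⟨cj ((y : G) * g) F₀, y, y.2.1, y.2.2, rfl⟩ y y.2.1 rfl)
      (relIndex_ne _ _)).trans h1
  · have h1 := hX1 _ h0
    rwa [hKK] at h1

/-- (H5) for the groups `D ≤ A ∩ O₂(Y)` and the `U^{yg}` -/
theorem cost [Finite G] (h : One F T F₀ 𝓐 U l Z) {bad : G → Prop}
    (hN : ∀ x ∈ U, bad x → ∀ f ∈ F, f * x = x * f → f ∈ F₀) (h5 : Cost T U bad) {D : Subgroup G}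
    (hD : D ≤ A ⊓ o2 Y) {y : G} (hy : y ∈ Y) (hyn : y ∉ cj g F₀) :
    D ≤ centralizer (cj (y * g) U : Set G) ∨
      2 * ((centralizer (cj (y * g) U : Set G)).relIndex D) ^ 3 ≤ (centralizer (D : Set G)).relIndex (cj (y * g) U) := by
  classical
  set k := y * g with hk
  have hkF : k ∈ F := p.yF hy
  set E := cj k⁻¹ D with hE
  have hDE : D = cj k E := by rw [hE, cj_cj_inv]
  have hEmem : ∀ a ∈ E, k * a * k⁻¹ ∈ D := by
    intro a ha
    have := mem_cj.1 ha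
    rwa [inv_inv] at this
  have hET : E ≤ T := by
    rw [hE, cj_le_iff, inv_inv]
    exact hD.trans (inf_le_right.trans (p.o2_le_cj hy))
  have hku : ∀ u ∈ U, k * u * k⁻¹ ∈ cj k U := fun u hu => conj_mem_cj hu
  have hkΛ : ∀ u ∈ U, k * u * k⁻¹ ∈ Λ := fun u hu => One.cjU_le_Lam hkF (hku u hu)
  have hel := h.fam.elem A p.hA
  have key : ∀ a u : G, k * (a * u * a⁻¹) * k⁻¹ = (k * a * k⁻¹) * (k * u * k⁻¹) * (k * a * k⁻¹)⁻¹ := by
    intro a u; group
  have inj : ∀ u v : G, k * u * k⁻¹ = k * v * k⁻¹ → u = v := fun u v e => mul_left_cancel (mul_right_cancel e)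
  have hquad : ∀ a ∈ E, ∀ b ∈ E, ∀ u ∈ U, b * (u * (a * u * a⁻¹)) = u * (a * u * a⁻¹) * b := by
    intro a ha b hb u hu
    have h1 := p.quad' h hy hyn (hku u hu) (hD (hEmem a ha)).1 (hD (hEmem b hb)).1
    apply inj
    calc k * (b * (u * (a * u * a⁻¹))) * k⁻¹ =
        (k * b * k⁻¹) * ((k * u * k⁻¹) * ((k * a * k⁻¹) * (k * u * k⁻¹) * (k * a * k⁻¹)⁻¹)) := by group
      _ = (k * u * k⁻¹) * ((k * a * k⁻¹) * (k * u * k⁻¹) * (k * a * k⁻¹)⁻¹) * (k * b * k⁻¹) := h1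
      _ = _ := by group
  have e1 : ∀ a ∈ E, ∀ u ∈ U, a * (a * u * a⁻¹) * a⁻¹ = u := by
    intro a ha u hu
    apply inj
    rw [key, key]
    exact elem_two hel (hD (hEmem a ha)).1 (hkΛ u hu)
  have e2 : ∀ a ∈ E, ∀ b ∈ E, ∀ u ∈ U, a * (b * u * b⁻¹) * a⁻¹ = b * (a * u * a⁻¹) * b⁻¹ := by
    intro a ha b hb u hu
    apply inj
    rw [key, key, key, key]
    exact elem_swap hel (hD (hEmem a ha)).1 (hD (hEmem b hb)).1 (hkΛ u hu)
  have e3 : ∀ w ∈ closure {y | ∃ x ∈ U, ∃ a ∈ E, y = x * (a * x * a⁻¹)}, ¬ bad w := by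
    intro w hw hb
    have hwU : w ∈ U := by
      have h1 : closure {y | ∃ x ∈ U, ∃ a ∈ E, y = x * (a * x * a⁻¹)} ≤ U := by
        rw [closure_le]
        rintro _ ⟨x, hx, a, ha, rfl⟩
        exact mul_mem hx ((mem_normalizer_iff.1 (h.TU (hET ha)) x).1 hx)
      exact h1 hw
    -- `A` centralises `k w k⁻¹`
    have h2 : ∀ a ∈ A, a * (k * w * k⁻¹) = k * w * k⁻¹ * a := by
      intro a ha
      have h3 : closure {y | ∃ x ∈ U, ∃ a ∈ E, y = x * (a * x * a⁻¹)} ≤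
          cj k⁻¹ (centralizer ({a} : Set G)) := by
        rw [closure_le]
        rintro _ ⟨x, hx, b, hb', rfl⟩
        change x * (b * x * b⁻¹) ∈ cj k⁻¹ (centralizer ({a} : Set G))
        rw [mem_cj, inv_inv, mem_centralizer_singleton_iff]
        have h4 := p.quad' h hy hyn (hku x hx) (hD (hEmem b hb')).1 ha
        have e1 : k * (x * (b * x * b⁻¹)) * k⁻¹ =
            (k * x * k⁻¹) * ((k * b * k⁻¹) * (k * x * k⁻¹) * (k * b * k⁻¹)⁻¹) := by group
        rw [e1, h4]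
      have h4 := h3 hw
      rw [mem_cj, inv_inv, mem_centralizer_singleton_iff] at h4
      exact h4.symm
    refine p.not_fix h hy hyn fun a ha => ?_
    rw [mem_cj]
    refine hN w hwU hb _ (mul_mem (mul_mem (inv_mem hkF) (h.fam.le A p.hA ha)) hkF) ?_
    have h3 := congrArg (fun t => k⁻¹ * t * k) (h2 a ha)
    have e1 : k⁻¹ * (a * (k * w * k⁻¹)) * k = k⁻¹ * a * k * w := by group
    have e2 : k⁻¹ * (k * w * k⁻¹ * a) * k = w * (k⁻¹ * a * k) := by group
    rw [← e1, ← e2]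
    exact h3
  rcases h5 E hET e1 e2 hquad e3 with h6 | h6
  · left
    rw [hDE, ← cj_centralizer]
    exact cj_mono k h6
  · right
    rw [hDE, ← cj_centralizer, ← cj_centralizer, rel_cj, rel_cj]
    exact h6

/-- case (i): `|Λ_Y : C(A)| ≥ |A : A ∩ O₂(Y)|²` if `U^g ≤ K'` -/
theorem sq_case [Finite G] (h : One F T F₀ 𝓐 U l Z) (hle : cj g U ≤ KK U F₀ Y g) :
    NoFF.Basic.V (cj g U) Y ≤ KK U F₀ Y g ∧ ((o2 Y).relIndex A) ^ 2 ≤
      (centralizer (A : Set G)).relIndex (NoFF.Basic.V (cj g U) Y) := by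
  set VA := cj g U with hVA
  set ΛY := NoFF.Basic.V VA Y with hΛY
  have hΛK : ΛY ≤ KK U F₀ Y g := by
    refine NoFF.Basic.V_le fun y hy => ?_
    change cj y (cj g U) ≤ _
    rw [cj_cj]
    by_cases hyn : y ∈ cj g F₀
    · have h1 : cj y (KK U F₀ Y g) ≤ KK U F₀ Y g := by
        rw [KK, cj_iSup]
        refine iSup_le fun w => ?_
        rw [cj_cj, ← mul_assoc]
        refine le_KK (mul_mem hy w.2.1) fun h2 => w.2.2 ?_
        have := mul_mem (inv_mem hyn) h2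
        rwa [inv_mul_cancel_left] at this
      rw [← cj_cj]
      exact (cj_mono y hle).trans h1
    · exact le_KK hy hyn
  have hΛL : ΛY ≤ Λ := hΛK.trans p.KK_le
  have hel : IsElementaryAbelian 2 ΛY := elab_mono h.Lam_elab hΛL
  obtain ⟨i⟩ := h.ne
  have hYgen : Y ≤ oddGen Y ⊔ Rs := (Dich.oddGen_sup_syl p.syl).ge
  have xd : XD Rs Y VA := by
    refine ⟨p.Rs2, p.RsY, hYgen, p.o2_le_Rs, ?_, elab_comm hel, elab_sq hel, ?_⟩
    · refine p.RsT.trans ?_
      rw [← cj_normalizer]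
      exact cj_mono g h.TU
    · intro h1
      apply p.nY
      have h2 : Y ≤ cj g (F ⊓ normalizer (U : Set G)) := by
        rw [cj_inf, cj_self p.gF, cj_normalizer]
        exact le_inf p.YF h1
      exact h2.trans (cj_mono g h.H4)
  have hno : NoOvM Y ΛY := noOvM p.syl p.par (elab_comm hel) (elab_sq hel)
  have hEM : ElemM ΛY A := ⟨fun a ha => centralizer_le hΛL ((h.fam.elem A p.hA).sq a ha), fun a ha b hb =>
    centralizer_le hΛL ((h.fam.elem A p.hA).comm a ha b hb)⟩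
  have h2 : ∃ c ∈ (⁅ΛY, o2 Y⁆ : Subgroup G), ∃ x ∈ oddGen Y, c * x ≠ x * c := by
    by_contra hcon
    push Not at hcon
    apply p.nY
    refine hYgen.trans (sup_le (fun x hx => ?_) (p.RsF₀ h))
    refine h.H1' (i := i) p.gF (p.YF (oddGen_le Y hx)) fun c hc' => (hcon c ?_ x hx).symm
    have h3 := cj_mono g (h.H3 i) hc'
    have h4 : cj g (⁅U, o2 F⁆ : Subgroup G) = ⁅cj g U, cj g (o2 F)⁆ := map_commutator _ _ _
    rw [h4, cj_o2_self p.gF] at h3
    refine commutator_mono ?_ p.O_le_o2 h3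
    have := NoFF.Basic.Z_le_V (Z := VA) (P := Y) (one_mem Y)
    rwa [map_one, one_smul] at this
  refine ⟨hΛK, ?_⟩
  have h3 := xd.sq_leM hno h2 p.AY (h.fam.two A p.hA) hEM
  rw [pow_two]
  exact h3

end GPan

/-- **THEOREM COUNT.** -/
theorem One.false_of_count [Finite G] (h : One F T F₀ 𝓐 U l Z) {bad : G → Prop}
    (hN : ∀ x ∈ U, bad x → ∀ f ∈ F, f * x = x * f → f ∈ F₀) (h5 : Cost T U bad) : False := by
  classical
  obtain ⟨R, A, Y, Rs, g, p⟩ := h.exists_pan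
  have hnc := p.not_cent h
  set A₀ := A ⊓ o2 Y with hA₀
  set K' := GPan.KK U F₀ Y g with hK'
  set C := centralizer (A : Set G) with hC
  have hri : ∀ X Y : Subgroup G, X.relIndex Y ≠ 0 := fun X Y => relIndex_ne _ _
  set a := (centralizer (K' : Set G)).relIndex A₀ with ha
  set ρ := A₀.relIndex A with hρ
  have ha1 : a ≠ 1 := fun e => hnc (relIndex_eq_one.1 e)
  have ha0 : a ≠ 0 := hri _ _
  have hρ0 : ρ ≠ 0 := hri _ _
  have hρo : (o2 Y).relIndex A = ρ := by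
    rw [hρ, hA₀, inf_comm, inf_relIndex_right]
  have hρ1 : ρ ≠ 1 := by
    intro e
    rw [← hρo] at e
    exact p.A_not_le h (relIndex_eq_one.1 e)
  have hcost : ∀ D ≤ A₀, ∀ y : {y : G // y ∈ Y ∧ y ∉ cj g F₀},
      D ≤ centralizer (cj ((y : G) * g) U : Set G) ∨
      2 * ((centralizer (cj ((y : G) * g) U : Set G)).relIndex D) ^ 3 ≤
        (centralizer (D : Set G)).relIndex (cj ((y : G) * g) U) := fun D hD y => p.cost h hN h5 hD y.2.1 y.2.2
  have hch : ∀ X : Subgroup G, (∀ y : {y : G // y ∈ Y ∧ y ∉ cj g F₀}, X.relIndex (cj ((y : G) * g) U) ≤ 2) →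
      a ^ 3 ≤ C.relIndex X := by
    intro X hX
    have h1 := chain (U := fun y : {y : G // y ∈ Y ∧ y ∉ cj g F₀} => cj ((y : G) * g) U) hcost hX _ A₀ le_rfl le_rfl
    refine h1.trans (relIndex_le_of_le_left (centralizer_le ?_) (hri _ _))
    exact_mod_cast (inf_le_left : A₀ ≤ A)
  have hsplit : (centralizer (K' : Set G)).relIndex A ≤ ρ * a := by
    have h1 : (centralizer (K' : Set G)).relIndex A ≤ (centralizer (K' : Set G) ⊓ A₀).relIndex A :=
      relIndex_le_of_le_left inf_le_left (hri _ _)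
    have h2 : (centralizer (K' : Set G) ⊓ A₀).relIndex A = a * ρ := by
      rw [ha, hρ, ← inf_relIndex_right (centralizer (K' : Set G)) A₀,
        relIndex_mul_relIndex _ _ _ inf_le_right inf_le_left]
    rw [h2, mul_comm] at h1
    exact h1
  by_cases hle : cj g U ≤ K'
  · obtain ⟨hΛK, hsq⟩ := p.sq_case h hle
    set ΛY := NoFF.Basic.V (cj g U) Y with hΛY
    rw [hρo] at hsq
    have h1 := h.fam.off A p.hA _ (hΛK.trans p.KK_le)
    have h2 : (centralizer (ΛY : Set G)).relIndex A ≤ (centralizer (K' : Set G)).relIndex A :=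
      relIndex_le_of_le_left (centralizer_le (by exact_mod_cast hΛK)) (hri _ _)
    have h3 := hch ΛY fun y => by
      have h4 : cj ((y : G) * g) U ≤ ΛY := by
        rw [← cj_cj]
        exact NoFF.Basic.Z_le_V y.2.1
      rw [relIndex_eq_one.2 h4]
      norm_num
    have h4 : ρ ^ 2 ≤ ρ * a := hsq.trans (h1.trans (h2.trans hsplit))
    have h5 : a ^ 3 ≤ ρ * a := h3.trans (h1.trans (h2.trans hsplit))
    have h6 : ρ ≤ a := by
      rw [pow_two] at h4
      exact Nat.le_of_mul_le_mul_left h4 (Nat.pos_of_ne_zero hρ0)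
    have h7 : a * a * a ≤ a * a := by
      calc a * a * a = a ^ 3 := by ring
        _ ≤ ρ * a := h5
        _ ≤ a * a := Nat.mul_le_mul_right _ h6
    have h8 : 0 < a * a := Nat.mul_pos (Nat.pos_of_ne_zero ha0) (Nat.pos_of_ne_zero ha0)
    have h9 : a ≤ 1 := by
      have : a * a * a ≤ a * a * 1 := by rw [mul_one]; exact h7
      exact Nat.le_of_mul_le_mul_left this h8
    omega
  · obtain ⟨X, hX2, hX1⟩ := p.points h hle
    have h1 := h.fam.off A p.hA _ p.KK_le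
    have h3 := hch X hX2
    have h4 : ρ * a ^ 3 ≤ ρ * a :=
      (Nat.mul_le_mul_left _ h3).trans (hX1.trans (h1.trans hsplit))
    have h5 : a ^ 3 ≤ a := Nat.le_of_mul_le_mul_left h4 (Nat.pos_of_ne_zero hρ0)
    have h6 : a * (a * a) ≤ a * 1 := by
      calc a * (a * a) = a ^ 3 := by ring
        _ ≤ a := h5
        _ = a * 1 := (mul_one a).symm
    have h7 : a * a ≤ 1 := Nat.le_of_mul_le_mul_left h6 (Nat.pos_of_ne_zero ha0)
    have h8 : a < 2 := by
      by_contra h9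
      have : 2 * 2 ≤ a * a := Nat.mul_le_mul (by omega) (by omega)
      omega
    omega

end Cfsg.Agent.Omega.OM.Swap.Fam
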