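import Cfsg.Agent.Omega.OmThm.NoOv
import Cfsg.Agent.Omega.FFThmM

/-!
# No over-offender, module form

The 2-group `E` has to act on `W` as an elementary abelian group only (`FFThm.ElemM W E`). The proofs are those of
`OmThm/NoOv.lean` and `OmThm/Two.lean` (helper404).
-/

set_option autoImplicit false
set_option linter.unusedVariables false

namespace Cfsg.Agent.Omega.OmThm

open Subgroup Cfsg.Agent.ZN Cfsg.Agent.Omega.FFBr Cfsg.Agent.Omega.NoFF.Basic Cfsg.Agent.MinSimple.VModule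
open Cfsg.Agent.MinSimple.MinParabolic (IsMin IsMinPar)
open Cfsg.Agent.ClassTwoFusion.Quad (cv mem_cv)
open Cfsg.Agent.Omega.FFThm (ElemM)
open scoped Pointwise commutatorElement

universe u

/-- No over-offender in the noncentral sections of `W`, module form. -/
def NoOvM {G : Type*} [Group G] (X W : Subgroup G) : Prop :=
  ∀ A C K E : Subgroup G, A ≤ K → K ≤ C → C ≤ W → X ≤ normalizer (A : Set G) → X ≤ normalizer (C : Set G) →
    (∃ c ∈ C, ∃ x ∈ oddGen X, c * x * c⁻¹ * x⁻¹ ∉ A) → E ≤ X → IsPGroup 2 E → ElemM W E →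
    (∀ b ∈ K, ∀ e ∈ E, b * e * b⁻¹ * e⁻¹ ∈ A) → (o2 X).relIndex E ≤ K.relIndex C

section abs

variable {X V : Type u} [Group X] [Finite X] [Group V] [Finite V]

/-- **No over-offender for an irreducible action of a minimal parabolic.** -/
theorem noOver_of_irr' (φ : X →* MulAut V) (hcomm : ∀ v w : V, v * w = w * v) (hsq : ∀ v : V, v * v = 1)
    (T : Sylow 2 X) (M : Subgroup X) (hM : IsMin (T : Subgroup X) M) (hTM : (T : Subgroup X) ≤ M)
    (irr : ∀ U : Subgroup V, (∀ x : X, ∀ u ∈ U, φ x u ∈ U) → U = ⊥ ∨ U = ⊤)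
    (nt : ∃ x : X, Odd (orderOf x) ∧ φ x ≠ 1) (E : Subgroup X) (hEp : IsPGroup 2 E)
    (hE : ∀ a ∈ E, ∀ b ∈ E, φ (a * b) = φ (b * a)) (hE2 : ∀ a ∈ E, φ (a * a) = 1) : (pCore 2 X).relIndex E ≤ (fixV φ E).index := by
  classical
  have f2 : Fact (Nat.Prime 2) := ⟨Nat.prime_two⟩
  obtain ⟨x₀, hx₀, hφ₀⟩ := nt
  obtain ⟨v₀, hv₀⟩ : ∃ v : V, φ x₀ v ≠ v := by
    by_contra hcon
    push Not at hcon
    exact hφ₀ (MulEquiv.ext hcon)
  have hVne : ∃ v : V, v ≠ 1 := ⟨v₀, fun h => hv₀ (by rw [h, map_one])⟩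
  -- the image
  set Y : Subgroup (MulAut V) := φ.range with hY
  let r : X →* Y := φ.rangeRestrict
  have hr : Function.Surjective r := φ.rangeRestrict_surjective
  have hsm : ∀ (x : X) (v : V), (r x • v : V) = φ x v := fun x v => rfl
  have hrk : ∀ x, r x = 1 ↔ φ x = 1 := fun x => by
    rw [← MonoidHom.mem_ker, ← MonoidHom.mem_ker, MonoidHom.ker_rangeRestrict]
  have irrY : ∀ U : Subgroup V, (∀ y : Y, ∀ u ∈ U, (y • u : V) ∈ U) → U = ⊥ ∨ U = ⊤ := by
    intro U hU
    exact irr U fun x u hu => hU (r x) u hu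
  -- `N T ≠ X` for `N = C_X(V)`
  have hker : r.ker ⊔ (T : Subgroup X) ≠ ⊤ := by
    intro h
    apply hφ₀
    rw [← hrk]
    have h1 : r x₀ ∈ (T : Subgroup X).map r := by
      have h2 : x₀ ∈ r.ker ⊔ (T : Subgroup X) := h ▸ mem_top x₀
      have h3 := mem_map_of_mem r h2
      rw [Subgroup.map_sup] at h3
      have h4 : r.ker.map r = ⊥ := (Subgroup.map_eq_bot_iff _).2 le_rfl
      rwa [h4, bot_sup_eq] at h3
    obtain ⟨k, hk⟩ := (T.isPGroup'.map r) ⟨r x₀, h1⟩
    have hk' : (r x₀) ^ 2 ^ k = 1 := by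
      have := congrArg Subtype.val hk
      simpa using this
    have h5 : orderOf (r x₀) ∣ 2 ^ k := orderOf_dvd_of_pow_eq_one hk'
    have h6 : orderOf (r x₀) ∣ orderOf x₀ := orderOf_map_dvd r x₀
    have h7 : Nat.Coprime (orderOf x₀) (2 ^ k) := Nat.Coprime.pow_right k (Nat.coprime_two_right.2 hx₀)
    exact orderOf_eq_one_iff.1 (Nat.dvd_one.1 (h7 ▸ Nat.dvd_gcd h6 h5))
  have hkerM : r.ker ≤ M := le_sup_left.trans (hM.le_of _ le_sup_right hker)
  -- the abstract situation
  have hAbs : Abs Y V (T.mapSurjective hr) (M.map r) := by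
    refine ⟨hcomm, hsq, fun y hy => ?_, fun N hN hN2 => ?_, ?_, ?_, fun K hK => ?_, fun W hW => ?_, ?_⟩
    · exact Subtype.ext (MulEquiv.ext hy)
    · -- `O₂(Y) = 1`
      obtain ⟨v, hv1, hv⟩ := exists_fixed_ne (Y := N) hN2 hsq hVne
      have h1 : cv V (N : Set Y) = ⊥ ∨ cv V (N : Set Y) = ⊤ := by
        refine irrY _ fun y u hu => ?_
        rw [mem_cv] at hu ⊢
        intro a ha
        have h2 : y⁻¹ * a * y ∈ N := by
          have := hN.conj_mem a ha y⁻¹
          rwa [inv_inv] at this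
        have h3 := hu _ h2
        calc a • y • u = y • (y⁻¹ * a * y) • u := by rw [← mul_smul, ← mul_smul]; congr 1; group
          _ = y • u := by rw [h3]
      rcases h1 with h1 | h1
      · exfalso
        apply hv1
        rw [← mem_bot, ← h1, mem_cv]
        exact fun a ha => hv ⟨a, ha⟩
      · rw [eq_bot_iff]
        intro a ha
        rw [mem_bot]
        apply Subtype.ext
        apply MulEquiv.ext
        intro w
        have h2 : w ∈ cv V (N : Set Y) := h1 ▸ mem_top w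
        exact h2 a ha
    · exact Subgroup.map_mono hTM
    · intro h
      apply hM.ne_top
      rw [eq_top_iff]
      have h1 := congrArg (Subgroup.comap r) h
      rw [Subgroup.comap_map_eq, Subgroup.comap_top, sup_eq_left.2 hkerM] at h1
      exact h1.ge
    · by_cases h : K.comap r = ⊤
      · right
        rw [← Subgroup.map_comap_eq_self_of_surjective hr K, h]
        exact Subgroup.map_top_of_surjective r hr
      · left
        have h1 : (T : Subgroup X) ≤ K.comap r := by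
          rw [← Subgroup.map_le_iff_le_comap]
          exact hK
        have h2 := hM.le_of _ h1 h
        rw [← Subgroup.map_comap_eq_self_of_surjective hr K]
        exact Subgroup.map_mono h2
    · -- generation
      let U : Subgroup V := closure {w | ∃ v : V, (∀ t ∈ (T.mapSurjective hr : Subgroup Y), t • v = v) ∧
        ∃ y : Y, w = y • v}
      have hUW : U ≤ W := by
        rw [closure_le]
        rintro _ ⟨v, hv, y, rfl⟩
        exact hW v hv y
      have hT2 : IsPGroup 2 (T.mapSurjective hr : Subgroup Y) := (T.mapSurjective hr).isPGroup'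
      obtain ⟨v, hv1, hv⟩ := exists_fixed_ne (Y := (T.mapSurjective hr : Subgroup Y)) hT2 hsq hVne
      have hU : U = ⊥ ∨ U = ⊤ := by
        refine irrY _ fun y u hu => ?_
        induction hu using closure_induction with
        | mem w hw =>
          obtain ⟨v, hv, z, rfl⟩ := hw
          exact subset_closure ⟨v, hv, y * z, by rw [mul_smul]⟩
        | one => rw [smul_one]; exact one_mem _
        | mul a b _ _ ha hb => rw [smul_mul']; exact mul_mem ha hb
        | inv a _ ha => rw [smul_inv']; exact inv_mem ha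
      rcases hU with hU | hU
      · exfalso
        apply hv1
        rw [← mem_bot, ← hU]
        exact subset_closure ⟨v, fun t ht => hv ⟨t, ht⟩, 1, by rw [one_smul]⟩
      · exact eq_top_iff.2 (hU ▸ hUW)
    · -- not fixed
      by_contra hcon
      push Not at hcon
      have hT2 : IsPGroup 2 (T.mapSurjective hr : Subgroup Y) := (T.mapSurjective hr).isPGroup'
      obtain ⟨v, hv1, hv⟩ := exists_fixed_ne (Y := (T.mapSurjective hr : Subgroup Y)) hT2 hsq hVne
      have hvY : ∀ y : Y, y • v = v := hcon v fun t ht => hv ⟨t, ht⟩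
      have h1 : cv V (Set.univ : Set Y) = ⊥ ∨ cv V (Set.univ : Set Y) = ⊤ := by
        refine irrY _ fun y u hu => ?_
        rw [mem_cv] at hu ⊢
        intro a _
        rw [hu y (Set.mem_univ _), hu a (Set.mem_univ _)]
      rcases h1 with h1 | h1
      · apply hv1
        rw [← mem_bot, ← h1, mem_cv]
        exact fun a _ => hvY a
      · apply hv₀
        have h2 : v₀ ∈ cv V (Set.univ : Set Y) := h1 ▸ mem_top v₀
        exact h2 (r x₀) (Set.mem_univ _)
  -- no over-offender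
  have hno : ANoOver Y V := by
    by_cases ho : ∃ A : Subgroup Y, AOff V A
    · exact (aStmt Y V _ _ hAbs ho).1
    · intro A hA hA2
      by_contra hlt
      push Not at hlt
      refine ho ⟨A, hA, hA2, ?_, hlt.le⟩
      rintro rfl
      rw [Subgroup.card_bot] at hlt
      have := Nat.pos_of_ne_zero (Subgroup.index_ne_zero_of_finite (H := cv V ((⊥ : Subgroup Y) : Set Y)))
      omega
  have h1 := hno (E.map r) (by
    rintro _ ⟨a, ha, rfl⟩ _ ⟨b, hb, rfl⟩
    rw [← map_mul, ← map_mul]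
    exact Subtype.ext (hE a ha b hb)) (by
    rintro _ ⟨a, ha, rfl⟩
    rw [← map_mul]
    exact Subtype.ext (hE2 a ha))
  have h2 : cv V ((E.map r : Subgroup Y) : Set Y) = fixV φ E := by
    ext v
    rw [mem_cv, mem_fixV]
    constructor
    · intro h e he
      exact h (r e) ⟨e, he, rfl⟩
    · rintro h _ ⟨e, he, rfl⟩
      exact h e he
  rw [h2] at h1
  refine le_trans ?_ h1
  -- `E ∩ C_X(V) ≤ O₂(X)`
  have hE2' : IsPGroup 2 E := hEp
  have hTk : (T : Subgroup X) ⊓ r.ker ≤ pCore 2 X :=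
    (MinSimple.MinParabolic.sup_eq_top_or_inf_le hM r.ker).resolve_left hker
  have hEk : E ⊓ r.ker ≤ pCore 2 X := by
    obtain ⟨Q, hQ⟩ := hE2'.exists_le_sylow
    obtain ⟨g, hg⟩ := MulAction.exists_smul_eq X T Q
    rintro e ⟨he, hek⟩
    have h3 : e ∈ (Q : Subgroup X) := hQ he
    rw [← hg, Sylow.coe_subgroup_smul, mem_pointwise_smul_iff_inv_smul_mem, MulAut.smul_def, ← map_inv,
      MulAut.conj_apply, inv_inv] at h3
    have h4 : g⁻¹ * e * g ∈ r.ker := by
      have := (inferInstance : r.ker.Normal).conj_mem e hek g⁻¹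
      rwa [inv_inv] at this
    have hn : (pCore 2 X).Normal := Lib.Cores.pCore_normal 2
    have h5 := hn.conj_mem _ (hTk ⟨h3, h4⟩) g
    rwa [show g * (g⁻¹ * e * g) * g⁻¹ = e from by group] at h5
  have h3 : (pCore 2 X).relIndex E ≤ r.ker.relIndex E := by
    rw [← inf_relIndex_left E r.ker]
    exact relIndex_le_of_le_left hEk (Subgroup.index_ne_zero_of_finite)
  rw [relIndex_ker] at h3
  exact h3

end abs

section main

variable {G : Type u} [Group G]

/-- **`NoOv`**: no over-offender in the noncentral sections of `W`. -/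
theorem noOvM [Finite G] {T X W : Subgroup G} (hT : ChoiceSit.Syl T X) (hmin : IsMinPar T X)
    (hWc : ∀ x ∈ W, ∀ y ∈ W, x * y = y * x) (hW2 : ∀ x ∈ W, x * x = 1) : NoOvM X W := by
  classical
  intro A C K E hAK hKC hCW hAn hCn hnt hEX hEp hEM hKE
  have f2 : Fact (Nat.Prime 2) := ⟨Nat.prime_two⟩
  have h0 : MPair X A C A C := ⟨le_rfl, hAK.trans hKC, le_rfl, hAn, hCn, exists_odd_of hAn hnt⟩
  obtain ⟨A₁, C₁, h, hm⟩ := exists_min h0
  have hC1W : C₁ ≤ W := h.le3.trans hCW
  -- the Sylow subgroup and the maximal subgroup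
  obtain ⟨M, hM⟩ := hmin.exists_isMin
  have hTp : IsPGroup 2 (T.subgroupOf X) := hT.2.1.comap_of_injective _ X.subtype_injective
  have hM' : IsMin ((hTp.toSylow (ChoiceSit.syl_not_dvd hT) : Sylow 2 X) : Subgroup X) M := hM
  have hTM : (hTp.toSylow (ChoiceSit.syl_not_dvd hT) : Subgroup X) ≤ M := by
    refine hM'.le_of _ le_rfl fun htop => ?_
    apply hmin.not_le
    have h1 : X ≤ T := subgroupOf_eq_top.1 htop
    exact h1.trans le_normalizer
  -- the module
  have hnorm : (A₁.subgroupOf C₁).Normal := by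
    refine ⟨fun n hn g => ?_⟩
    have e : g * n * g⁻¹ = n := Subtype.ext (by
      push_cast
      rw [hWc _ (hC1W g.2) _ (hC1W n.2), mul_inv_cancel_right])
    rwa [e]
  have hmapN : ∀ x : X, (A₁.subgroupOf C₁).map ((act h.n2 x : MulAut C₁).toMonoidHom) = A₁.subgroupOf C₁ := by
    intro x
    ext c
    constructor
    · rintro ⟨d, hd, rfl⟩
      exact (mem_normalizer_iff.1 (h.n1 x.2) _).1 hd
    · intro hc
      refine ⟨⟨(x : G)⁻¹ * c * x, ?_⟩, ?_, ?_⟩
      · have := (mem_normalizer_iff.1 (h.n2 (inv_mem x.2)) _).1 c.2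
        rwa [inv_inv] at this
      · have := (mem_normalizer_iff.1 (h.n1 (inv_mem x.2)) _).1 hc
        rw [inv_inv] at this
        exact this
      · apply Subtype.ext
        change (x : G) * ((x : G)⁻¹ * c * x) * (x : G)⁻¹ = c
        group
  let φ : X →* MulAut (C₁ ⧸ A₁.subgroupOf C₁) := qAct (act h.n2) (A₁.subgroupOf C₁) hmapN
  have hφ : ∀ (x : X) (c : C₁), φ x (c : C₁ ⧸ A₁.subgroupOf C₁) = ((act h.n2 x c : C₁) : C₁ ⧸ A₁.subgroupOf C₁) :=
    fun x c => rfl
  have hcomm : ∀ v w : C₁ ⧸ A₁.subgroupOf C₁, v * w = w * v := by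
    intro v w
    induction v using QuotientGroup.induction_on with
    | H v =>
      induction w using QuotientGroup.induction_on with
      | H w =>
        rw [← QuotientGroup.mk_mul, ← QuotientGroup.mk_mul]
        congr 1
        exact Subtype.ext (hWc _ (hC1W v.2) _ (hC1W w.2))
  have hsq : ∀ v : C₁ ⧸ A₁.subgroupOf C₁, v * v = 1 := by
    intro v
    induction v using QuotientGroup.induction_on with
    | H v =>
      rw [← QuotientGroup.mk_mul]
      have : v * v = 1 := Subtype.ext (hW2 _ (hC1W v.2))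
      rw [this]
      rfl
  have hirr : ∀ U : Subgroup (C₁ ⧸ A₁.subgroupOf C₁), (∀ x : X, ∀ u ∈ U, φ x u ∈ U) → U = ⊥ ∨ U = ⊤ := by
    intro U hU
    set B : Subgroup G := (U.comap (QuotientGroup.mk' (A₁.subgroupOf C₁))).map C₁.subtype with hB
    have hBmem : ∀ c : C₁, (c : G) ∈ B ↔ (c : C₁ ⧸ A₁.subgroupOf C₁) ∈ U := by
      intro c
      constructor
      · rintro ⟨d, hd, hdc⟩
        have : d = c := Subtype.ext hdc
        rw [← this]
        exact hd
      · intro hc
        exact ⟨c, hc, rfl⟩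
    have hBC : B ≤ C₁ := map_subtype_le _
    have hAB : A₁ ≤ B := by
      intro a ha
      have haC := h.le2 ha
      have : ((⟨a, haC⟩ : C₁) : C₁ ⧸ A₁.subgroupOf C₁) = 1 := (QuotientGroup.eq_one_iff _).2 ha
      exact (hBmem ⟨a, haC⟩).2 (this ▸ one_mem U)
    have hBn : X ≤ normalizer (B : Set G) := by
      have key : ∀ x ∈ X, ∀ b ∈ B, x * b * x⁻¹ ∈ B := by
        intro x hx b hb
        have hbC := hBC hb
        have h1 := (hBmem ⟨b, hbC⟩).1 hb
        have h2 := hU ⟨x, hx⟩ _ h1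
        rw [hφ] at h2
        exact (hBmem _).2 h2
      intro x hx
      rw [mem_normalizer_iff]
      intro b
      refine ⟨key x hx b, fun hb => ?_⟩
      have := key x⁻¹ (inv_mem hx) _ hb
      rwa [show x⁻¹ * (x * b * x⁻¹) * x⁻¹⁻¹ = b from by group] at this
    rcases irr_of_min hW2 hCW h hm hAB hBC hBn with h1 | h1
    · left
      rw [eq_bot_iff]
      intro v hv
      obtain ⟨v, rfl⟩ := QuotientGroup.mk_surjective v
      have h2 := (hBmem v).2 hv
      rw [h1] at h2
      exact (QuotientGroup.eq_one_iff v).2 h2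
    · right
      rw [eq_top_iff]
      intro v _
      obtain ⟨v, rfl⟩ := QuotientGroup.mk_surjective v
      exact (hBmem v).1 (h1.symm ▸ v.2)
  have hnt' : ∃ x : X, Odd (orderOf x) ∧ φ x ≠ 1 := by
    obtain ⟨x, hx, hodd, c, hc, hcx⟩ := h.nt
    refine ⟨⟨x, hx⟩, by rwa [orderOf_mk], fun h1 => hcx ?_⟩
    have h2 : φ ⟨x, hx⟩ ((⟨c, hc⟩ : C₁) : C₁ ⧸ A₁.subgroupOf C₁) = ((⟨c, hc⟩ : C₁) : C₁ ⧸ A₁.subgroupOf C₁) := by
      rw [h1]; rfl
    rw [hφ, QuotientGroup.eq] at h2
    have h3 : (x * c * x⁻¹)⁻¹ * c ∈ A₁ := h2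
    have e : c * x * c⁻¹ * x⁻¹ = (x * c * x⁻¹)⁻¹ * c := by
      have h4 : (x * c * x⁻¹)⁻¹ ∈ W := inv_mem (hC1W ((mem_normalizer_iff.1 (h.n2 hx) c).1 hc))
      rw [hWc _ h4 _ (hC1W hc)]
      group
    rwa [e]
  have hEw : ∀ a ∈ E, ∀ b ∈ E, ∀ w ∈ W, (a * b) * w * (a * b)⁻¹ = (b * a) * w * (b * a)⁻¹ := by
    intro a ha b hb w hw
    have h1 := mem_centralizer_iff.1 (hEM.comm a⁻¹ (inv_mem ha) b⁻¹ (inv_mem hb)) w hw
    rw [inv_inv, inv_inv] at h1
    -- `w (a⁻¹ b⁻¹ a b) = (a⁻¹ b⁻¹ a b) w`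
    calc (a * b) * w * (a * b)⁻¹ = (b * a) * ((a⁻¹ * b⁻¹ * a * b) * w) * b⁻¹ * a⁻¹ := by group
      _ = (b * a) * (w * (a⁻¹ * b⁻¹ * a * b)) * b⁻¹ * a⁻¹ := by rw [h1]
      _ = (b * a) * w * (b * a)⁻¹ := by group
  have hEs : ∀ a ∈ E, ∀ w ∈ W, (a * a) * w * (a * a)⁻¹ = w := by
    intro a ha w hw
    have h1 := mem_centralizer_iff.1 (hEM.sq a ha) w hw
    rw [pow_two] at h1
    rw [← h1, mul_inv_cancel_right]
  have hmain := noOver_of_irr' φ hcomm hsq _ M hM' hTM hirr hnt' (E.subgroupOf X)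
    (hEp.comap_of_injective _ X.subtype_injective)
    (fun a ha b hb => by
      apply MulEquiv.ext
      intro v
      induction v using QuotientGroup.induction_on with
      | H v =>
        rw [hφ, hφ]
        congr 1
        exact Subtype.ext (hEw _ ha _ hb _ (hC1W v.2)))
    (fun a ha => by
      apply MulEquiv.ext
      intro v
      induction v using QuotientGroup.induction_on with
      | H v =>
        rw [hφ, MulAut.one_apply]
        congr 1
        exact Subtype.ext (hEs _ ha _ (hC1W v.2)))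
  -- left side
  have hl : (pCore 2 X).relIndex (E.subgroupOf X) = (o2 X).relIndex E := by
    have h1 : (o2 X).subgroupOf X = pCore 2 X :=
      comap_map_eq_self_of_injective X.subtype_injective _
    rw [← h1]
    exact relIndex_subgroupOf hEX
  rw [hl] at hmain
  refine hmain.trans ?_
  -- right side
  have h1 : (K.subgroupOf C₁).map (QuotientGroup.mk' (A₁.subgroupOf C₁)) ≤ fixV φ (E.subgroupOf X) := by
    rintro _ ⟨b, hb, rfl⟩
    rw [mem_fixV]
    intro e he
    change φ e (b : C₁ ⧸ A₁.subgroupOf C₁) = (b : C₁ ⧸ A₁.subgroupOf C₁)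
    rw [hφ, QuotientGroup.eq]
    have h2 : (b : G) * e * (b : G)⁻¹ * (e : G)⁻¹ ∈ A₁ := h.le1 (hKE _ hb _ he)
    change ((e : G) * b * (e : G)⁻¹)⁻¹ * b ∈ A₁
    have h4 : ((e : G) * b * (e : G)⁻¹)⁻¹ ∈ W := inv_mem (hC1W ((mem_normalizer_iff.1 (h.n2 e.2) _).1 b.2))
    rw [hWc _ h4 _ (hC1W b.2)]
    have e3 : (b : G) * ((e : G) * b * (e : G)⁻¹)⁻¹ = (b : G) * e * (b : G)⁻¹ * (e : G)⁻¹ := by group
    rwa [e3]
  have hne : ∀ (H : Subgroup (C₁ ⧸ A₁.subgroupOf C₁)), H.index ≠ 0 := fun H => Subgroup.index_ne_zero_of_finite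
  calc (fixV φ (E.subgroupOf X)).index
      ≤ ((K.subgroupOf C₁).map (QuotientGroup.mk' (A₁.subgroupOf C₁))).index := by
        have := relIndex_le_of_le_left (L := ⊤) h1 (by rw [relIndex_top_right]; exact hne _)
        rwa [relIndex_top_right, relIndex_top_right] at this
    _ ≤ (K.subgroupOf C₁).index := by
        have h3 := Subgroup.index_map_dvd (K.subgroupOf C₁) (QuotientGroup.mk'_surjective (A₁.subgroupOf C₁))
        exact Nat.le_of_dvd (Nat.pos_of_ne_zero Subgroup.index_ne_zero_of_finite) h3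
    _ = K.relIndex C₁ := rfl
    _ ≤ K.relIndex C := relIndex_le_of_le_right h.le3 Subgroup.index_ne_zero_of_finite

end main

section

variable {G : Type*} [Group G] {S X U : Subgroup G}

/-- **(3.a)** If `O²(X)` does not centralise `[W, Q]`, then `|E : E ∩ Q|² ≤ |W : C_W(E)|`. -/
theorem XD.sq_leM [Finite G] (D : XD S X U) (hno : NoOvM X (V U X)) (h2 : ∃ c ∈ (⁅V U X, o2 X⁆ : Subgroup G), ∃ x ∈ oddGen X, c * x ≠ x * c)
    {E : Subgroup G} (hEX : E ≤ X) (hEp : IsPGroup 2 E) (hEM : ElemM (V U X) E) :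
    (o2 X).relIndex E * (o2 X).relIndex E ≤ (centralizer (E : Set G)).relIndex (V U X) := by
  set W := V U X with hW
  set N : Subgroup G := ⁅W, o2 X⁆ with hN
  have hNW : N ≤ W := D.comm_le_W
  set C : Subgroup G := centralizer (E : Set G) ⊓ W with hC
  have hCW : C ≤ W := inf_le_right
  have hCE : ∀ b ∈ C, ∀ e ∈ E, b * e * b⁻¹ * e⁻¹ = 1 := by
    intro b hb e he
    have := mem_centralizer_iff.1 hb.1 e he
    rw [← this]; group
  have e1 : (o2 X).relIndex E ≤ (C ⊔ N).relIndex W := by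
    refine hno N W (C ⊔ N) E le_sup_right (sup_le hCW hNW) le_rfl XD.X_le_normalizer_comm XD.X_le_normalizer_W D.one
      hEX hEp hEM ?_
    intro b hb e he
    have hb' : b ∈ ((C ⊔ N : Subgroup G) : Set G) := hb
    rw [coe_mul_of_left_le_normalizer_right C N (fun c hc => by
      rw [mem_normalizer_iff_conj_image_eq]
      ext y
      constructor
      · rintro ⟨z, hz, rfl⟩
        have h3 : MulAut.conj c z = z := by
          rw [MulAut.conj_apply, D.comm c (hCW hc) z (hNW hz), mul_inv_cancel_right]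
        rw [h3]; exact hz
      · intro hy
        refine ⟨y, hy, ?_⟩
        rw [MulAut.conj_apply, D.comm c (hCW hc) y (hNW hy), mul_inv_cancel_right])] at hb'
    obtain ⟨c, hc, n, hn, rfl⟩ := Set.mem_mul.1 hb'
    have h3 : n * e * n⁻¹ * e⁻¹ ∈ N := by
      have : n * e * n⁻¹ * e⁻¹ = n * (e * n⁻¹ * e⁻¹) := by group
      rw [this]
      exact mul_mem hn ((mem_normalizer_iff.1 (XD.X_le_normalizer_comm (hEX he)) _).1 (inv_mem hn))
    have h4 : c * n * e * (c * n)⁻¹ * e⁻¹ = c * (n * e * n⁻¹ * e⁻¹) * c⁻¹ * (c * e * c⁻¹ * e⁻¹) := by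
      have h5 : e * c⁻¹ = c⁻¹ * e := by
        have := hCE c⁻¹ (inv_mem hc) e he
        rw [mul_inv_eq_one, mul_inv_eq_iff_eq_mul] at this
        exact this.symm
      have h6 : c * e * c⁻¹ * e⁻¹ = 1 := hCE c hc e he
      rw [h6, mul_one]
      calc c * n * e * (c * n)⁻¹ * e⁻¹ = c * n * e * n⁻¹ * (e⁻¹ * (e * c⁻¹)) * e⁻¹ := by group
        _ = c * n * e * n⁻¹ * (e⁻¹ * (c⁻¹ * e)) * e⁻¹ := by rw [h5]
        _ = c * n * e * n⁻¹ * e⁻¹ * c⁻¹ := by group
        _ = c * (n * e * n⁻¹ * e⁻¹) * c⁻¹ := by group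
    rw [h4, hCE c hc e he, mul_one, D.comm c (hCW hc) _ (hNW h3), mul_inv_cancel_right]
    exact h3
  have e2 : (o2 X).relIndex E ≤ C.relIndex N := by
    have h3 : C.relIndex N = (C ⊓ N).relIndex N := (inf_relIndex_right ..).symm
    rw [h3]
    refine hno ⊥ N (C ⊓ N) E bot_le inf_le_right hNW (fun x _ => by
        rw [mem_normalizer_iff]; intro y; simp [mem_bot]) XD.X_le_normalizer_comm ?_ hEX hEp hEM ?_
    · obtain ⟨c, hc, x, hx, hne⟩ := h2
      refine ⟨c, hc, x, hx, fun h4 => hne ?_⟩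
      rw [mem_bot, mul_inv_eq_one, mul_inv_eq_iff_eq_mul] at h4
      exact h4
    · intro b hb e he
      rw [mem_bot]
      exact hCE b hb.1 e he
  have e3 : C.relIndex W = C.relIndex (C ⊔ N) * (C ⊔ N).relIndex W :=
    (relIndex_mul_relIndex C (C ⊔ N) W le_sup_left (sup_le hCW hNW)).symm
  have e4 : C.relIndex N ≤ C.relIndex (C ⊔ N) := relIndex_le_of_le_right le_sup_right (relIndex_ne _ _)
  have e5 : (centralizer (E : Set G)).relIndex W = C.relIndex W := (inf_relIndex_right ..).symm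
  rw [e5, e3]
  exact Nat.mul_le_mul (e2.trans e4) e1

end

end Cfsg.Agent.Omega.OmThm
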