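import Cfsg.Agent.Omega.OM.Swap.Two
import Cfsg.Agent.Omega.NO1.BestOff
import Cfsg.Agent.Omega.OM.Swap.Fam.NoOvM

/-!
# THEOREM SW over a family of best offenders: the family

`Fm F Λ 𝓐` : the properties of `𝓐` which are used. Instances: `fm_AA` (`𝓐 = 𝒜(F)`), `fm_best` (the best offenders of `F`
on `X ≥ Λ`).
-/

set_option autoImplicit false

namespace Cfsg.Agent.Omega.OM.Swap.Fam

open Subgroup Cfsg Cfsg.Agent.ZN Cfsg.Agent.ZN.ChoiceBase Cfsg.Agent.ZN.ChoiceSit
open Cfsg.Agent.Omega.OM.Swap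
open Cfsg.Agent.Omega.FFThm (ElemM)
open Cfsg.Agent.Omega.NO1.BestOff (Best)
open scoped Pointwise commutatorElement

universe u

variable {G : Type u} [Group G] {F A Λ X U : Subgroup G} {𝓐 : Set (Subgroup G)}

/-- A family of best offenders on `Λ` in `F`. -/
structure Fm (F Λ : Subgroup G) (𝓐 : Set (Subgroup G)) : Prop where
  le : ∀ A ∈ 𝓐, A ≤ F
  two : ∀ A ∈ 𝓐, IsPGroup 2 A
  conj : ∀ f ∈ F, ∀ A ∈ 𝓐, cj f A ∈ 𝓐
  elem : ∀ A ∈ 𝓐, ElemM Λ A
  off : ∀ A ∈ 𝓐, ∀ U : Subgroup G, U ≤ Λ → (centralizer (A : Set G)).relIndex U ≤ (centralizer (U : Set G)).relIndex A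
  rep : ∀ A ∈ 𝓐, ∀ U : Subgroup G, U ≤ Λ → ∃ B' ∈ 𝓐, A ⊓ centralizer ((⁅U, A⁆ : Subgroup G) : Set G) ≤ B' ∧
    B' ≤ (A ⊓ centralizer ((⁅U, A⁆ : Subgroup G) : Set G)) ⊔ Λ ∧
    Λ ⊓ centralizer ((A ⊓ centralizer ((⁅U, A⁆ : Subgroup G) : Set G) : Subgroup G) : Set G) =
      ⁅U, A⁆ ⊔ (Λ ⊓ centralizer (A : Set G))

theorem comm_le (hAΛ : A ≤ normalizer (Λ : Set G)) (hU : U ≤ Λ) : ⁅U, A⁆ ≤ Λ :=
  (commutator_mono hU le_rfl).trans (Cfsg.Agent.Lib.CoprimeCommutator.commutator_le_left hAΛ)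

namespace Fm

variable [Finite G] (h : Fm F Λ 𝓐) (hΛ : IsElementaryAbelian 2 Λ)
include h hΛ

theorem cent (hA : A ∈ 𝓐) (hU : U ≤ Λ)
    (hc : ∀ b ∈ A ⊓ centralizer ((⁅U, A⁆ : Subgroup G) : Set G), ∀ u ∈ U, b * u = u * b) :
    U ≤ centralizer (A : Set G) := by
  obtain ⟨-, -, -, -, h1⟩ := h.rep A hA U hU
  set B : Subgroup G := A ⊓ centralizer ((⁅U, A⁆ : Subgroup G) : Set G) with hB
  set C : Subgroup G := Λ ⊓ centralizer (A : Set G) with hC
  set W : Subgroup G := ⁅U, A⁆ ⊔ C with hW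
  have hUW : U ≤ W := by
    rw [← h1]
    exact fun u hu => ⟨hU hu, mem_centralizer_iff.2 fun b hb => hc b hb u hu⟩
  have hWΛ : W ≤ Λ := by rw [← h1]; exact inf_le_left
  have hAC : A ≤ normalizer (C : Set G) := by
    intro a ha
    rw [mem_normalizer_iff]
    have key : ∀ a ∈ A, ∀ x ∈ C, a * x * a⁻¹ ∈ C := by
      intro a ha x hx
      have : a * x * a⁻¹ = x := by
        rw [mem_centralizer_iff.1 hx.2 a ha, mul_inv_cancel_right]
      rw [this]
      exact hx
    intro x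
    refine ⟨key a ha x, fun h => ?_⟩
    have h3 := key a⁻¹ (inv_mem ha) _ h
    have h4 : a⁻¹ * (a * x * a⁻¹) * a⁻¹⁻¹ = x := by group
    rwa [h4] at h3
  have hAW : A ≤ normalizer (W : Set G) := by
    intro a ha
    have h2 : a ∈ normalizer ((⁅U, A⁆ : Subgroup G) : Set G) :=
      (Cfsg.Agent.Lib.CoprimeCommutator.right_le_normalizer_commutator U A) ha
    have h3 := hAC ha
    rw [mem_normalizer_iff_map_conj_eq] at h2 h3 ⊢
    rw [Subgroup.map_sup, h2, h3]
  have h2 : W ≤ C ⊔ ⁅W, A⁆ := by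
    refine sup_le ?_ le_sup_left
    exact (commutator_mono hUW le_rfl).trans le_sup_right
  have h3 : W ≤ C := NO3b.CTwo.le_of_le_sup_commutator (h.two A hA)
    (fun x hx y hy => elab_comm hΛ x (hWΛ hx) y (hWΛ hy)) (isPGroup_of_elab (elab_mono hΛ hWΛ)) hAW hAC
    le_sup_right h2
  exact (hUW.trans h3).trans inf_le_right

/-- The replacement `B'` has more fixed points. -/
theorem exists_rep (hA : A ∈ 𝓐) (hU : U ≤ Λ) : ∃ B' ∈ 𝓐, A ⊓ centralizer ((⁅U, A⁆ : Subgroup G) : Set G) ≤ B' ∧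
    B' ≤ (A ⊓ centralizer ((⁅U, A⁆ : Subgroup G) : Set G)) ⊔ Λ ∧
    (¬ ⁅U, A⁆ ≤ centralizer (A : Set G) →
      Nat.card ↥(Λ ⊓ centralizer (A : Set G)) < Nat.card ↥(Λ ⊓ centralizer (B' : Set G))) := by
  obtain ⟨B', hB', h1, h2, h3⟩ := h.rep A hA U hU
  refine ⟨B', hB', h1, h2, fun hne => ?_⟩
  set B : Subgroup G := A ⊓ centralizer ((⁅U, A⁆ : Subgroup G) : Set G) with hB
  have hcB : Λ ⊓ centralizer (B : Set G) ≤ Λ ⊓ centralizer (B' : Set G) := by
    refine le_inf inf_le_left ?_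
    rintro x ⟨hx, hx'⟩
    have h4 : B' ≤ centralizer ({x} : Set G) := by
      refine h2.trans (sup_le (fun b hb => ?_) fun l hl => ?_)
      · exact mem_centralizer_singleton_iff.2 (mem_centralizer_iff.1 hx' b hb)
      · exact mem_centralizer_singleton_iff.2 (elab_comm hΛ l hl x hx)
    exact mem_centralizer_iff.2 fun b hb => mem_centralizer_singleton_iff.1 (h4 hb)
  have h4 : Λ ⊓ centralizer (A : Set G) ≤ Λ ⊓ centralizer (B' : Set G) := by
    refine le_trans ?_ hcB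
    rw [h3]
    exact le_sup_right
  have h5 : ⁅U, A⁆ ≤ Λ ⊓ centralizer (B' : Set G) := by
    refine le_trans ?_ hcB
    rw [h3]
    exact le_sup_left
  rcases (Subgroup.card_le_of_le h4).lt_or_eq with h6 | h6
  · exact h6
  · exfalso
    have h7 := eq_of_le_of_card_ge h4 h6.ge
    rw [← h7] at h5
    exact hne (h5.trans inf_le_right)

end Fm

/-- Elements of a member commute on `Λ`. -/
theorem elem_swap (hE : ElemM Λ A) {a b x : G} (ha : a ∈ A) (hb : b ∈ A) (hx : x ∈ Λ) :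
    a * (b * x * b⁻¹) * a⁻¹ = b * (a * x * a⁻¹) * b⁻¹ := by
  have h1 := mem_centralizer_iff.1 (hE.comm a⁻¹ (inv_mem ha) b⁻¹ (inv_mem hb)) x hx
  rw [inv_inv, inv_inv] at h1
  calc a * (b * x * b⁻¹) * a⁻¹ = (b * a) * ((a⁻¹ * b⁻¹ * a * b) * x) * b⁻¹ * a⁻¹ := by group
    _ = (b * a) * (x * (a⁻¹ * b⁻¹ * a * b)) * b⁻¹ * a⁻¹ := by rw [h1]
    _ = _ := by group

theorem elem_two (hE : ElemM Λ A) {a x : G} (ha : a ∈ A) (hx : x ∈ Λ) : a * (a * x * a⁻¹) * a⁻¹ = x := by
  have h1 := mem_centralizer_iff.1 (hE.sq a ha) x hx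
  rw [pow_two] at h1
  calc a * (a * x * a⁻¹) * a⁻¹ = (a * a * x) * a⁻¹ * a⁻¹ := by group
    _ = (x * (a * a)) * a⁻¹ * a⁻¹ := by rw [h1]
    _ = x := by group

/-! ### Instances -/

theorem fm_AA [Finite G] (hΛ : IsElementaryAbelian 2 Λ) (hΛF : Λ ≤ F) (hn : F ≤ normalizer (Λ : Set G)) :
    Fm F Λ (AA F) where
  le := fun A hA => hA.2.1
  two := fun A hA => isPGroup_of_elab hA.1
  conj := fun f hf A hA => AA_cj hf hA
  elem := fun A hA => ⟨fun a ha => by rw [pow_two, elab_sq hA.1 a ha]; exact one_mem _, fun a ha b hb => by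
    have e : a * b * a⁻¹ * b⁻¹ = 1 := by rw [elab_comm hA.1 a ha b hb]; group
    rw [e]; exact one_mem _⟩
  off := fun A hA U hU => relIndex_le hA (elab_mono hΛ hU) (hU.trans hΛF)
  rep := fun A hA U hU => by
    obtain ⟨h1, h2⟩ := Swap.rep hA hΛ hΛF hn hU
    exact ⟨_, h2, le_sup_left, sup_le_sup_left inf_le_left _, h1⟩

/-- The best offenders of `F` on `X`. -/
def BF (F X : Subgroup G) : Set (Subgroup G) := {A | A ≤ F ∧ IsPGroup 2 A ∧ Best X A}

theorem fm_best [Finite G] (hX : IsElementaryAbelian 2 X) (hFX : F ≤ normalizer (X : Set G)) (hΛX : Λ ≤ X)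
    (hn : F ≤ normalizer (Λ : Set G)) : Fm F Λ (BF F X) where
  le := fun A hA => hA.1
  two := fun A hA => hA.2.1
  conj := fun f hf A hA => ⟨by
      have := cj_mono f hA.1
      rwa [cj_self hf] at this, isPGroup_cj f hA.2.1, hA.2.2.conj (hFX hf)⟩
  elem := fun A hA => ⟨fun a ha => centralizer_le hΛX (hA.2.2.sq a ha), fun a ha b hb =>
    centralizer_le hΛX (hA.2.2.comm a ha b hb)⟩
  off := fun A hA U hU => by
    set K : Subgroup G := A ⊓ centralizer (U : Set G) with hK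
    set C : Subgroup G := X ⊓ centralizer (A : Set G) with hC
    have h1 := hA.2.2.max K inf_le_left (inf_le_inf_left _ (centralizer_le (hU.trans hΛX)))
    have hUC : ∀ x ∈ U, ∀ y ∈ C, x * y = y * x := fun x hx y hy => elab_comm hX x (hΛX (hU hx)) y hy.1
    have h2 := card_mul hUC
    have h3 : U ⊔ C ≤ X ⊓ centralizer (K : Set G) := by
      refine sup_le (le_inf (hU.trans hΛX) ?_) (inf_le_inf_left _ (centralizer_le inf_le_left))
      intro x hx
      exact mem_centralizer_iff.2 fun k hk => (mem_centralizer_iff.1 hk.2 x hx).symm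
    have h4 : U ⊓ C = U ⊓ centralizer (A : Set G) :=
      le_antisymm (inf_le_inf_left _ inf_le_right) fun x hx => ⟨hx.1, hΛX (hU hx.1), hx.2⟩
    have h5 : Nat.card ↥(U ⊓ centralizer (A : Set G)) * (centralizer (A : Set G)).relIndex U = Nat.card U := by
      rw [inf_comm, ← inf_relIndex_right]
      exact card_mul_relIndex inf_le_right
    have h6 : Nat.card K * (centralizer (U : Set G)).relIndex A = Nat.card A := by
      rw [hK, inf_comm, ← inf_relIndex_right]
      exact card_mul_relIndex inf_le_right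
    have h7 := Subgroup.card_le_of_le h3
    rw [h4] at h2
    have p1 : 0 < Nat.card K := Nat.card_pos
    have p2 : 0 < Nat.card C := Nat.card_pos
    have p3 : 0 < Nat.card ↥(U ⊓ centralizer (A : Set G)) := Nat.card_pos
    refine Nat.le_of_mul_le_mul_left (c := Nat.card K * Nat.card C * Nat.card ↥(U ⊓ centralizer (A : Set G))) ?_
      (Nat.mul_pos (Nat.mul_pos p1 p2) p3)
    calc Nat.card K * Nat.card C * Nat.card ↥(U ⊓ centralizer (A : Set G)) * (centralizer (A : Set G)).relIndex U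
        = Nat.card K * ((Nat.card ↥(U ⊓ centralizer (A : Set G)) * (centralizer (A : Set G)).relIndex U) *
            Nat.card C) := by ring
      _ = Nat.card K * (Nat.card ↥(U ⊔ C) * Nat.card ↥(U ⊓ centralizer (A : Set G))) := by rw [h5, h2]
      _ = (Nat.card K * Nat.card ↥(U ⊔ C)) * Nat.card ↥(U ⊓ centralizer (A : Set G)) := by ring
      _ ≤ (Nat.card K * Nat.card ↥(X ⊓ centralizer (K : Set G))) * Nat.card ↥(U ⊓ centralizer (A : Set G)) :=
          Nat.mul_le_mul_right _ (Nat.mul_le_mul_left _ h7)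
      _ ≤ (Nat.card A * Nat.card C) * Nat.card ↥(U ⊓ centralizer (A : Set G)) := Nat.mul_le_mul_right _ h1
      _ = ((Nat.card K * (centralizer (U : Set G)).relIndex A) * Nat.card C) *
            Nat.card ↥(U ⊓ centralizer (A : Set G)) := by rw [h6]
      _ = _ := by ring
  rep := fun A hA U hU => by
    have : Fact (Nat.Prime 2) := ⟨Nat.prime_two⟩
    have hAX : A ≤ normalizer (X : Set G) := hA.1.trans hFX
    have hab : ⁅A, A⁆ ≤ centralizer (X : Set G) := by
      rw [commutator_le]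
      intro x hx y hy
      exact hA.2.2.comm x hx y hy
    have hUX : U ≤ X := hU.trans hΛX
    have hcX : ⁅U, A⁆ ≤ X := comm_le hAX hUX
    have hcΛ : ⁅U, A⁆ ≤ Λ := comm_le (hA.1.trans hn) hU
    obtain ⟨B, hBA, h1 | ⟨hB, h1, h2⟩⟩ := Cfsg.Agent.S0598.result (p := 2) X A hX hAX hab U hUX
    · exfalso
      set Y : Subgroup G := B ⊔ (A ⊓ centralizer (X : Set G)) with hY
      have h3 := hA.2.2.max Y (sup_le hBA inf_le_left) le_sup_right
      have h4 : X ⊓ centralizer (B : Set G) ≤ X ⊓ centralizer (Y : Set G) := by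
        refine le_inf inf_le_left ?_
        rintro x ⟨hx, hx'⟩
        have h5 : Y ≤ centralizer ({x} : Set G) := by
          refine sup_le (fun b hb => ?_) fun a ha => ?_
          · exact mem_centralizer_singleton_iff.2 (mem_centralizer_iff.1 hx' b hb)
          · exact mem_centralizer_singleton_iff.2 (mem_centralizer_iff.1 ha.2 x hx).symm
        exact mem_centralizer_iff.2 fun b hb => mem_centralizer_singleton_iff.1 (h5 hb)
      have h5 : Nat.card B * Nat.card ↥(X ⊓ centralizer (B : Set G)) ≤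
          Nat.card Y * Nat.card ↥(X ⊓ centralizer (Y : Set G)) :=
        Nat.mul_le_mul (Subgroup.card_le_of_le le_sup_left) (Subgroup.card_le_of_le h4)
      omega
    · subst hB
      set B : Subgroup G := A ⊓ centralizer ((⁅U, A⁆ : Subgroup G) : Set G) with hB
      refine ⟨B, ⟨hBA.trans hA.1, hA.2.1.to_le hBA, ?_⟩, le_rfl, le_sup_left, ?_⟩
      · refine ⟨NO1.BestOff.ElemM.mono hA.2.2.toElemM hBA, fun Y hY hYc => ?_⟩
        rw [← h2]
        refine hA.2.2.max Y (hY.trans hBA) (le_trans (le_inf ?_ inf_le_right) hYc)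
        exact inf_le_inf_left _ (centralizer_le hcX)
      · apply le_antisymm
        · rintro x ⟨hx, hx'⟩
          have h3 : x ∈ ⁅U, A⁆ ⊔ (X ⊓ centralizer (A : Set G)) := by
            rw [← h1]
            exact ⟨hΛX hx, hx'⟩
          obtain ⟨u, hu, c, hc, rfl⟩ : ∃ u ∈ (⁅U, A⁆ : Subgroup G), ∃ c ∈ X ⊓ centralizer (A : Set G), u * c = x := by
            refine NO3b.CTwo.mem_sup_of_le_norm (fun u hu => ?_) h3
            refine centralizer_le_normalizer _ (mem_centralizer_iff.2 fun c hc => ?_)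
            exact elab_comm hX c hc.1 u (hcX hu)
          refine mul_mem (mem_sup_left hu) (mem_sup_right ⟨?_, hc.2⟩)
          have := mul_mem (inv_mem (hcΛ hu)) hx
          rwa [inv_mul_cancel_left] at this
        · refine le_inf (sup_le hcΛ inf_le_left) (sup_le ?_ (inf_le_right.trans (centralizer_le hBA)))
          intro x hx
          exact mem_centralizer_iff.2 fun b hb => (mem_centralizer_iff.1 hb.2 x hx).symm

end Cfsg.Agent.Omega.OM.Swap.Fam
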