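import Cfsg.Agent.Omega.OM.Swap.Fam.One

/-!
# THEOREM SW over a family: the situation `SitF`, and STEP 1 for it

`SitF.exists_star`.
-/

set_option autoImplicit false

namespace Cfsg.Agent.Omega.OM.Swap.Fam

open Subgroup Cfsg Cfsg.Agent.ZN Cfsg.Agent.ZN.ChoiceBase Cfsg.Agent.ZN.ChoiceSit
  Cfsg.Agent.MinSimple.VModule Cfsg.Agent.Omega.OmThm
open Cfsg.Agent.Omega.OM.Swap hiding Two One Mx
open Cfsg.Agent.MinSimple.MinParabolic (IsMinPar)
open Cfsg.Agent.Omega.FFThm (ElemM)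
open scoped Pointwise commutatorElement

universe u

/-- The situation of THEOREM SW over a family `𝓐`. `cj g H = g H g⁻¹`. -/
structure SitF {G : Type u} [Group G] {ι : Type*} (F T F₀ : Subgroup G) (𝓐 : Set (Subgroup G))
    (V : ι → Subgroup G) (z : ι → G) : Prop where
  syl : Syl T F
  TF₀ : T ≤ F₀
  F₀F : F₀ < F
  /-- `F₀` is the unique maximal subgroup of `F` over `T` -/
  max : ∀ K : Subgroup G, T ≤ K → K < F → K ≤ F₀
  /-- the family -/
  fam : Fm F (NoFF.Basic.V (⨆ j, V j) F) 𝓐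
  nJ : ∃ A ∈ 𝓐, A ≤ T ∧ ¬ A ≤ o2 F
  fin : Finite ι
  two : ∃ i j : ι, i ≠ j
  card : ∀ i, Nat.card (V i) = 4
  zV : ∀ i, z i ∈ V i
  z1 : ∀ i, z i ≠ 1
  VO : ∀ i, V i ≤ o2 F
  sq : ∀ i, ∀ x ∈ V i, x * x = 1
  comm : ∀ f ∈ F, ∀ i j, ∀ x ∈ V i, ∀ y ∈ V j, x * (f * y * f⁻¹) = f * y * f⁻¹ * x
  ind : ∀ i, ∀ x ∈ V i, x ∈ (⨆ j, ⨆ _ : j ≠ i, V j) → x = 1
  perm : ∀ t ∈ T, ∀ i, ∃ j, cj t (V i) = V j ∧ t * z i * t⁻¹ = z j
  tr : ∀ i j, ∃ o ∈ o2 F, cj o (V i) = V j
  /-- the members of the family in `T` normalise the `V i` -/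
  nor : ∀ A ∈ 𝓐, A ≤ T → ∀ a ∈ A, ∀ i, cj a (V i) = V i
  /-- exactness: a member which moves `V i` contains the transvection on `V i` -/
  hat : ∀ A ∈ 𝓐, A ≤ T → ∀ i, (∃ a ∈ A, ∃ x ∈ V i, a * x ≠ x * a) →
    ∃ a ∈ A, (∃ x ∈ V i, a * x ≠ x * a) ∧ ∀ j, j ≠ i → ∀ x ∈ V j, a * x = x * a
  mov : ∀ i, ∃ t ∈ T, (∃ x ∈ V i, t * x ≠ x * t) ∧ ∀ j, j ≠ i → ∀ x ∈ V j, t * x = x * t
  zc : ∀ i j, i ≠ j → (∀ k, k = i ∨ k = j) → ∀ f ∈ F, f * (z i * z j) = z i * z j * f
  ti : ∀ i, ∀ x ∈ V i, x ≠ 1 → ∀ f ∈ F, x ∈ cj f (⨆ j, V j) → f ∈ F₀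

variable {G : Type u} [Group G] {ι : Type*} {F T F₀ : Subgroup G} {𝓐 : Set (Subgroup G)} {V : ι → Subgroup G}
  {z : ι → G}

/-- `⟨z⟩` as the set `{1, z}`. -/
theorem mem_zpowers_iff_of_sq {x z : G} (hz : z * z = 1) : x ∈ zpowers z ↔ x = 1 ∨ x = z := by
  constructor
  · rintro ⟨n, rfl⟩
    have hz2 : z ^ (2 : ℤ) = 1 := by rw [zpow_ofNat, pow_two]; exact hz
    rcases Int.even_or_odd' n with ⟨k, rfl | rfl⟩
    · left
      change z ^ (2 * k) = 1
      rw [zpow_mul, hz2, one_zpow]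
    · right
      change z ^ (2 * k + 1) = z
      rw [zpow_add, zpow_mul, hz2, one_zpow, one_mul, zpow_one]
  · rintro (rfl | rfl)
    · exact one_mem _
    · exact mem_zpowers _

namespace SitF

variable (h : SitF F T F₀ 𝓐 V z)
include h

theorem T2 : IsPGroup 2 T := h.syl.2.1

theorem TF : T ≤ F := h.syl.1

theorem U0_le : U0 V ≤ o2 F := iSup_le h.VO

theorem cj_T {t : G} (ht : t ∈ T) : cj t (U0 V) = U0 V := by
  have key : ∀ t ∈ T, cj t (U0 V) ≤ U0 V := by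
    intro t ht
    rw [cj_iSup]
    refine iSup_le fun i => ?_
    obtain ⟨j, hj, -⟩ := h.perm t ht i
    rw [hj]
    exact le_iSup V j
  refine le_antisymm (key t ht) ?_
  have h1 := cj_mono t (key t⁻¹ (inv_mem ht))
  rwa [cj_cj_inv] at h1

theorem T_nor : T ≤ normalizer (U0 V : Set G) := fun _ ht => mem_normalizer_iff_cj.2 (h.cj_T ht)

theorem comm' {f g : G} (hf : f ∈ F) (hg : g ∈ F) {i j : ι} {x y : G} (hx : x ∈ cj f (V i)) (hy : y ∈ cj g (V j)) :
    x * y = y * x := by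
  have h1 := h.comm (f⁻¹ * g) (mul_mem (inv_mem hf) hg) i j _ (mem_cj.1 hx) _ (mem_cj.1 hy)
  have e1 : f⁻¹ * g * (g⁻¹ * y * g) * (f⁻¹ * g)⁻¹ = f⁻¹ * y * f := by group
  rw [e1] at h1
  have e2 : f⁻¹ * x * f * (f⁻¹ * y * f) = f⁻¹ * (x * y) * f := by group
  have e3 : f⁻¹ * y * f * (f⁻¹ * x * f) = f⁻¹ * (y * x) * f := by group
  rw [e2, e3] at h1
  exact mul_left_cancel (mul_right_cancel h1)

theorem sq' {f : G} {i : ι} {x : G} (hx : x ∈ cj f (V i)) : x * x = 1 := by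
  have h1 := h.sq i _ (mem_cj.1 hx)
  have e2 : f⁻¹ * x * f * (f⁻¹ * x * f) = f⁻¹ * (x * x) * f := by group
  rw [e2] at h1
  have : x * x = f * (f⁻¹ * (x * x) * f) * f⁻¹ := by group
  rw [this, h1]
  group

theorem Lam_ab : (∀ x ∈ Lam V F, ∀ y ∈ Lam V F, x * y = y * x) ∧ ∀ x ∈ Lam V F, x * x = 1 := by
  have e : Lam V F = ⨆ k : F × ι, cj (k.1 : G) (V k.2) := by
    rw [Sit.Lam_eq, iSup_prod]
  rw [e]
  exact elab_iSup (fun k l x hx y hy => h.comm' k.1.2 l.1.2 hx hy) fun k x hx => h.sq' hx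

/-- (TI) conjugated -/
theorem ti' {g g' : G} (hg : g ∈ F) (hg' : g' ∈ F) {i : ι} {x : G} (hx : x ∈ cj g (V i)) (hx1 : x ≠ 1)
    (hx' : x ∈ cj g' (U0 V)) : g⁻¹ * g' ∈ F₀ := by
  refine h.ti i (g⁻¹ * x * g) (mem_cj.1 hx) ?_ _ (mul_mem (inv_mem hg) hg') ?_
  · intro h1
    apply hx1
    have : x = g * (g⁻¹ * x * g) * g⁻¹ := by group
    rw [this, h1]
    group
  · rw [mem_cj]
    have : (g⁻¹ * g')⁻¹ * (g⁻¹ * x * g) * (g⁻¹ * g') = g'⁻¹ * x * g' := by group
    rw [this]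
    exact mem_cj.1 hx'

theorem ti_cent {g a : G} (hg : g ∈ F) (ha : a ∈ F) {i : ι} {x : G} (hx : x ∈ cj g (V i)) (hx1 : x ≠ 1)
    (hax : a * x = x * a) : a ∈ cj g F₀ := by
  rw [mem_cj]
  have h1 : x ∈ cj (a * g) (U0 V) := by
    rw [← cj_cj, mem_cj]
    have : a⁻¹ * x * a = x := by rw [mul_assoc, ← hax, inv_mul_cancel_left]
    rw [this]
    exact cj_mono g (le_iSup V i) hx
  have h2 := h.ti' hg (mul_mem ha hg) hx hx1 h1
  rwa [← mul_assoc] at h2

/-- An element of `T` which normalises `V i` acts as `1` or as the transvection with centre `z i`. -/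
theorem act {t : G} (ht : t ∈ T) {i : ι} (hti : cj t (V i) = V i) {x : G} (hx : x ∈ V i) :
    t * x * t⁻¹ = x ∨ t * x * t⁻¹ = x * z i := by
  classical
  -- `t` fixes `z i`
  have hz : t * z i * t⁻¹ = z i := by
    obtain ⟨j, hj, hjz⟩ := h.perm t ht i
    by_cases hij : j = i
    · rw [hjz, hij]
    · exfalso
      have h1 : V i = V j := hti.symm.trans hj
      refine h.z1 i (h.ind i _ (h.zV i) ?_)
      have h2 : z i ∈ V j := h1 ▸ h.zV i
      exact (le_iSup₂ (f := fun j (_ : j ≠ i) => V j) j hij) h2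
  have hzz := h.sq i _ (h.zV i)
  have htx : t * x * t⁻¹ ∈ V i := by rw [← hti]; exact conj_mem_cj hx
  by_cases h1 : x = 1
  · left; rw [h1]; group
  by_cases h2 : x = z i
  · left; rw [h2]; exact hz
  by_contra hcon
  push Not at hcon
  obtain ⟨hc1, hc2⟩ := hcon
  -- five elements `1, z, x, xz, txt⁻¹`
  have hxx := h.sq i _ hx
  have hz1 := h.z1 i
  have hsub : ({1, z i, x, x * z i, t * x * t⁻¹} : Set G) ⊆ V i := by
    intro y hy
    simp only [Set.mem_insert_iff, Set.mem_singleton_iff] at hy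
    rcases hy with rfl | rfl | rfl | rfl | rfl
    · exact one_mem _
    · exact h.zV i
    · exact hx
    · exact mul_mem hx (h.zV i)
    · exact htx
  have hcard : ({1, z i, x, x * z i, t * x * t⁻¹} : Finset G).card = 5 := by
    have e1 : (1 : G) ≠ z i := fun h => hz1 h.symm
    have e2 : (1 : G) ≠ x := fun h => h1 h.symm
    have e3 : (1 : G) ≠ x * z i := fun h3 => h2 (by
      have := congrArg (· * z i) h3
      simp only [one_mul, mul_assoc, hzz, mul_one] at this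
      exact this.symm)
    have e4 : (1 : G) ≠ t * x * t⁻¹ := fun h3 => h1 (by
      have := congrArg (fun w => t⁻¹ * w * t) h3
      simp only [mul_one, inv_mul_cancel] at this
      have e : t⁻¹ * (t * x * t⁻¹) * t = x := by group
      rw [e] at this
      exact this.symm)
    have e5 : z i ≠ x := fun h => h2 h.symm
    have e6 : z i ≠ x * z i := fun h3 => h1 (by
      have := congrArg (· * z i) h3
      simp only [mul_assoc, hzz, mul_one] at this
      exact this.symm)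
    have e7 : z i ≠ t * x * t⁻¹ := fun h3 => h2 (by
      rw [← hz] at h3
      exact (mul_left_cancel (mul_right_cancel h3)).symm)
    have e8 : x ≠ x * z i := fun h3 => hz1 (by
      have := congrArg (x⁻¹ * ·) h3
      simp only [inv_mul_cancel, inv_mul_cancel_left] at this
      exact this.symm)
    have e9 : x ≠ t * x * t⁻¹ := fun h => hc1 h.symm
    have e10 : x * z i ≠ t * x * t⁻¹ := fun h => hc2 h.symm
    rw [Finset.card_insert_of_notMem, Finset.card_insert_of_notMem, Finset.card_insert_of_notMem,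
      Finset.card_insert_of_notMem, Finset.card_singleton]
    · simpa using e10
    · simp only [Finset.mem_insert, Finset.mem_singleton, not_or]; exact ⟨e8, e9⟩
    · simp only [Finset.mem_insert, Finset.mem_singleton, not_or]; exact ⟨e5, e6, e7⟩
    · simp only [Finset.mem_insert, Finset.mem_singleton, not_or]; exact ⟨e1, e2, e3, e4⟩
  have h3 : (({1, z i, x, x * z i, t * x * t⁻¹} : Finset G) : Set G) ⊆ V i := by
    simpa using hsub
  have hfin : (V i : Set G).Finite := by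
    have : Finite (V i) := Nat.finite_of_card_ne_zero (by rw [h.card]; norm_num)
    exact Set.toFinite _
  have h4 := Set.ncard_le_ncard h3 hfin
  rw [Set.ncard_coe_finset, hcard] at h4
  have h5 : (V i : Set G).ncard = 4 := by rw [← Nat.card_coe_set_eq]; exact h.card i
  omega

/-- (H4) `z i ∈ [⟨V j⟩, O]`. -/
theorem z_mem_comm [Finite G] (i : ι) : z i ∈ (⁅U0 V, o2 F⁆ : Subgroup G) := by
  obtain ⟨k, hk⟩ : ∃ k, k ≠ i := by
    obtain ⟨k, l, hkl⟩ := h.two
    by_cases h1 : k = i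
    · exact ⟨l, fun h2 => hkl (h1.trans h2.symm)⟩
    · exact ⟨k, h1⟩
  obtain ⟨s, hs, hsV⟩ := h.tr i k
  obtain ⟨t, ht, ⟨x, hx, htx⟩, htriv⟩ := h.mov i
  have hti : cj t (V i) = V i := by
    obtain ⟨j, hj, -⟩ := h.perm t ht i
    by_cases hji : j = i
    · rw [hj, hji]
    · exfalso
      -- `t` centralises `V j`, so `V j = cj t⁻¹ (V j) = V i`
      have h1 : cj t⁻¹ (V j) = V j := by
        ext w
        rw [mem_cj, inv_inv]
        constructor
        · intro h2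
          have h3 := htriv j hji _ h2
          have : w = t⁻¹ * (t * w * t⁻¹) * t := by group
          rw [this, mul_assoc, ← h3, inv_mul_cancel_left]
          exact h2
        · intro h2
          rw [htriv j hji w h2, mul_inv_cancel_right]
          exact h2
      rw [← hj, cj_inv_cj, hj] at h1
      refine h.z1 i (h.ind i _ (h.zV i) ?_)
      have h2 : z i ∈ V j := h1 ▸ h.zV i
      exact (le_iSup₂ (f := fun j (_ : j ≠ i) => V j) j hji) h2
  have h1 : t * x * t⁻¹ = x * z i := by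
    rcases h.act ht hti hx with h2 | h2
    · exact absurd (mul_inv_eq_iff_eq_mul.1 h2) htx
    · exact h2
  have htF : t ∈ F := h.TF ht
  set o := t * (s⁻¹ * t⁻¹ * s) with ho
  have hoO : o ∈ o2 F := by
    have h2 : t * s⁻¹ * t⁻¹ ∈ o2 F := (mem_normalizer_iff.1 (ChoiceSit.le_normalizer_o2 F htF) _).1 (inv_mem hs)
    have h3 := mul_mem h2 hs
    have e : t * s⁻¹ * t⁻¹ * s = o := by rw [ho]; group
    rwa [e] at h3
  have hsx : s * x * s⁻¹ ∈ V k := by rw [← hsV]; exact conj_mem_cj hx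
  have h4 : t * (s * x * s⁻¹) = s * x * s⁻¹ * t := htriv k hk _ hsx
  have h5 : o * x * o⁻¹ = x * z i := by
    calc o * x * o⁻¹ = t * (s⁻¹ * (t⁻¹ * (s * x * s⁻¹ * t)) * s) * t⁻¹ := by rw [ho]; group
      _ = t * (s⁻¹ * (t⁻¹ * (t * (s * x * s⁻¹))) * s) * t⁻¹ := by rw [h4]
      _ = t * x * t⁻¹ := by group
      _ = x * z i := h1
  have h6 : ⁅x, o⁆ = z i := by
    have hz : (z i)⁻¹ = z i := inv_eq_of_mul_eq_one_left (h.sq i _ (h.zV i))
    have hx' : x⁻¹ = x := inv_eq_of_mul_eq_one_left (h.sq i _ hx)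
    have hzx : x * z i = z i * x :=
      h.comm' (one_mem F) (one_mem F) (i := i) (j := i) (x := x) (y := z i) (by rwa [cj_one])
        (by rw [cj_one]; exact h.zV i)
    calc ⁅x, o⁆ = x * (o * x * o⁻¹)⁻¹ := by rw [commutatorElement_def]; group
      _ = x * (x * z i)⁻¹ := by rw [h5]
      _ = x * ((z i)⁻¹ * x⁻¹) := by rw [mul_inv_rev]
      _ = x * (z i * x) := by rw [hz, hx']
      _ = x * (x * z i) := by rw [hzx]
      _ = z i := by rw [← mul_assoc, h.sq i x hx, one_mul]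
  rw [← h6]
  exact commutator_mem_commutator (le_iSup V i hx) hoO

theorem one [Finite G] : One F T F₀ 𝓐 (U0 V) V (fun i => zpowers (z i)) where
  syl := h.syl
  TF₀ := h.TF₀
  F₀F := h.F₀F
  max := h.max
  fam := h.fam
  nJ := h.nJ
  ne := by obtain ⟨i, -, -⟩ := h.two; exact ⟨i⟩
  UO := h.U0_le
  TU := h.T_nor
  comm := h.Lam_ab.1
  sq := h.Lam_ab.2
  sup := rfl
  H1 := fun i f hf hc => by
    have h1 := h.ti_cent (one_mem F) hf (i := i) (x := z i) (by rw [cj_one]; exact h.zV i) (h.z1 i)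
      (hc _ (mem_zpowers _))
    rwa [cj_one] at h1
  H2 := fun A hA hAT i => by
    by_cases hm : ∃ a ∈ A, ∃ x ∈ V i, a * x ≠ x * a
    · right
      obtain ⟨a, ha, x, hx, hax⟩ := hm
      have h1 : a * x * a⁻¹ = x * z i := by
        rcases h.act (hAT ha) (h.nor A hA hAT a ha i) hx with h2 | h2
        · exact absurd (mul_inv_eq_iff_eq_mul.1 h2) hax
        · exact h2
      rw [zpowers_le]
      refine subset_closure ⟨x, hx, a, ha, ?_⟩
      rw [h1, ← mul_assoc, h.sq i x hx, one_mul]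
    · left
      push Not at hm
      exact fun a ha x hx => hm a ha x hx
  H3 := fun i => by
    rw [zpowers_le]
    exact h.z_mem_comm i
  H4 := by
    rintro f ⟨hf, hfn⟩
    obtain ⟨i, -, -⟩ := h.two
    refine h.ti i (z i) (h.zV i) (h.z1 i) f hf ?_
    change z i ∈ cj f (U0 V)
    rw [cj_eq_of_mem_normalizer hfn]
    exact le_iSup V i (h.zV i)

/-- **STEP 1.** -/
theorem exists_star [Finite G] : ∃ i j : ι, i ≠ j ∧ ∃ c ∈ T, (∀ u ∈ U0 V, c * (c * u * c⁻¹) * c⁻¹ = u) ∧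
    cj c (V i) = V j ∧ ∃ a ∈ F, a ∉ F₀ ∧ ∀ x ∈ V i, a * (x * (c * x * c⁻¹)) = x * (c * x * c⁻¹) * a := by
  obtain ⟨c, hc, hc2, ⟨u, hu, hcu⟩, a, ha, han, hE⟩ := h.one.exists_one
  obtain ⟨i, x, hx, hcx⟩ : ∃ i, ∃ x ∈ V i, c * x ≠ x * c := by
    by_contra hcon
    push Not at hcon
    apply hcu
    have h1 : U0 V ≤ centralizer ({c} : Set G) := iSup_le fun i x hx =>
      mem_centralizer_singleton_iff.2 (hcon i x hx).symm
    exact (mem_centralizer_singleton_iff.1 (h1 hu)).symm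
  obtain ⟨j, hj, -⟩ := h.perm c hc i
  refine ⟨i, j, ?_, c, hc, hc2, hj, a, ha, han, fun x hx => hE x (le_iSup V i hx)⟩
  rintro rfl
  apply han
  have h1 : c * x * c⁻¹ ∈ V i := by
    have := conj_mem_cj (g := c) hx
    rwa [hj] at this
  have h2 : x * (c * x * c⁻¹) ∈ V i := mul_mem hx h1
  have h3 : x * (c * x * c⁻¹) ≠ 1 := by
    intro h4
    have h5 : x⁻¹ = x := inv_eq_of_mul_eq_one_left (h.sq i x hx)
    have h6 : c * x * c⁻¹ = x := by
      rw [mul_eq_one_iff_inv_eq, h5] at h4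
      exact h4.symm
    exact hcx (mul_inv_eq_iff_eq_mul.1 h6)
  have h4 := h.ti_cent (one_mem F) ha (i := i) (by rw [cj_one]; exact h2) h3 (hE x (le_iSup V i hx))
  rwa [cj_one] at h4

end SitF

end Cfsg.Agent.Omega.OM.Swap.Fam
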